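import Cfsg.Agent.Lib.Qd.TISylow
import Mathlib.GroupTheory.Sylow

/-!
`Qd(p)` from a natural plane: if `X` normalises the `p`-subgroup `V₁` and maps onto `SL(2, p)`
compatibly with a surjection `V₁ → (ZMod p)²`, then `Qd(p)` is involved (`p` odd): the normaliser in
`X` of a Sylow 2-subgroup over `{±1}` is a complement.
-/

set_option autoImplicit false

namespace Cfsg.Agent.Qd

open scoped MatrixGroups
open Matrix

variable {G : Type*} [Group G] {p : ℕ} [hp : Fact p.Prime]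

omit hp in
theorem involves_of_surjective {H : Type*} [Group H] {K : Subgroup G} (φ : K →* H)
    (hφ : Function.Surjective φ) : Cfsg.Involves H G := by
  have heq : (φ.ker.map K.subtype).subgroupOf K = φ.ker :=
    Subgroup.comap_map_eq_self_of_injective (Subgroup.subtype_injective _) _
  have hn : ((φ.ker.map K.subtype).subgroupOf K).Normal := heq.symm ▸ MonoidHom.normal_ker _
  exact ⟨K, _, hn, ⟨(QuotientGroup.quotientMulEquivOfEq heq).trans
    (QuotientGroup.quotientKerEquivOfSurjective _ hφ)⟩⟩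

/-- The matrix `(M v; 0 1)`. -/
def qdMat (v : Fin 2 → ZMod p) (M : SL(2, ZMod p)) : Matrix.SpecialLinearGroup (Fin 3) (ZMod p) :=
  ⟨!![M 0 0, M 0 1, v 0; M 1 0, M 1 1, v 1; 0, 0, 1], by
    have h := M.det_coe
    rw [Matrix.det_fin_two] at h
    rw [Matrix.det_fin_three]
    simp
    linear_combination h⟩

theorem qdMat_coe (v : Fin 2 → ZMod p) (M : SL(2, ZMod p)) :
    (qdMat v M : Matrix (Fin 3) (Fin 3) (ZMod p)) =
      !![M 0 0, M 0 1, v 0; M 1 0, M 1 1, v 1; 0, 0, 1] := rfl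

theorem qdMat_mem (v : Fin 2 → ZMod p) (M : SL(2, ZMod p)) : qdMat v M ∈ Cfsg.qd p :=
  Subgroup.subset_closure ⟨by simp [qdMat], by simp [qdMat], by simp [qdMat]⟩

theorem qdMat_mul (v w : Fin 2 → ZMod p) (M N : SL(2, ZMod p)) :
    qdMat v M * qdMat w N =
      qdMat (v + Matrix.mulVec (M : Matrix (Fin 2) (Fin 2) (ZMod p)) w) (M * N) := by
  apply Matrix.SpecialLinearGroup.ext
  intro i j
  rw [Matrix.SpecialLinearGroup.coe_mul, qdMat_coe, qdMat_coe, qdMat_coe, Matrix.SpecialLinearGroup.coe_mul]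
  fin_cases i <;> fin_cases j <;>
    simp [Matrix.mul_apply, Fin.sum_univ_three, Fin.sum_univ_two, Matrix.mulVec, dotProduct] <;>
    ring

theorem exists_qdMat_eq {M : Matrix.SpecialLinearGroup (Fin 3) (ZMod p)} (hM : M ∈ Cfsg.qd p) :
    ∃ v N, qdMat v N = M := by
  obtain ⟨h0, h1, h2⟩ := qd_shape M hM
  have hd := M.det_coe
  rw [Matrix.det_fin_three, h0, h1, h2] at hd
  refine ⟨![M 0 2, M 1 2], ⟨!![M 0 0, M 0 1; M 1 0, M 1 1], by
    rw [Matrix.det_fin_two_of]; linear_combination hd⟩, ?_⟩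
  apply Matrix.SpecialLinearGroup.ext
  intro i j
  fin_cases i <;> fin_cases j <;> simp [qdMat, h0, h1, h2]

theorem involves_qd_of_natural [Finite G] (hp2 : p ≠ 2) (V₁ X : Subgroup G) (hV : IsPGroup p V₁)
    (hXV : X ≤ Subgroup.normalizer (V₁ : Set G)) (α : X →* SL(2, ZMod p))
    (c : V₁ →* Multiplicative (Fin 2 → ZMod p)) (hα : Function.Surjective α)
    (hc : Function.Surjective c)
    (heq : ∀ (x : X) (v : V₁), ∃ h : (x : G) * v * (x : G)⁻¹ ∈ V₁,
      (c ⟨_, h⟩).toAdd = Matrix.mulVec (α x : Matrix (Fin 2) (Fin 2) (ZMod p)) (c v).toAdd) :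
    Cfsg.Involves ↥(Cfsg.qd p) G := by
  classical
  have h2 : (2 : ZMod p) ≠ 0 := by
    intro h
    have := (ZMod.natCast_eq_zero_iff 2 p).1 (by exact_mod_cast h) |>.antisymm
    exact hp2 ((Nat.prime_dvd_prime_iff_eq hp.out Nat.prime_two).1
      ((ZMod.natCast_eq_zero_iff 2 p).1 (by exact_mod_cast h)))
  have hm1 : (-1 : SL(2, ZMod p)) ≠ 1 := fun h => h2 (by
    have := congrArg (fun g : SL(2, ZMod p) => g 0 0) h
    simp at this
    linear_combination -this)
  set N₀ : Subgroup SL(2, ZMod p) := Subgroup.zpowers (-1) with hN₀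
  have hN₀mem : ∀ g ∈ N₀, g = 1 ∨ g = -1 := by
    rintro _ ⟨k, rfl⟩
    rcases Int.even_or_odd k with hk | hk
    · exact Or.inl hk.neg_one_zpow
    · exact Or.inr hk.neg_one_zpow
  have hN₀n : N₀.Normal := ⟨fun g hg k => by
    rcases hN₀mem g hg with rfl | rfl
    · simp
    · simp [hN₀]⟩
  set X₀ : Subgroup X := N₀.comap α with hX₀
  have hX₀n : X₀.Normal := hN₀n.comap α
  obtain ⟨x, hx⟩ := hα (-1)
  obtain ⟨k, m, hm, hkm⟩ := Nat.exists_eq_pow_mul_and_not_dvd (orderOf_pos x).ne' 2 (by norm_num)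
  have hmodd : Odd m := Nat.odd_iff.2 (Nat.two_dvd_ne_zero.1 hm)
  have hz0 : α (x ^ m) = -1 := by rw [map_pow, hx, hmodd.neg_one_pow]
  let z : X₀ := ⟨x ^ m, by rw [hX₀, Subgroup.mem_comap, hz0]; exact Subgroup.mem_zpowers _⟩
  have hzp : IsPGroup 2 (Subgroup.zpowers z) := by
    have hz2 : z ^ 2 ^ k = 1 := Subtype.ext (by
      show (x ^ m) ^ 2 ^ k = 1
      rw [← pow_mul, mul_comm, ← hkm, pow_orderOf_eq_one])
    rintro ⟨w, i, rfl⟩
    exact ⟨k, Subtype.ext (by
      rw [Subgroup.coe_pow, ← zpow_natCast, ← _root_.zpow_mul, mul_comm, _root_.zpow_mul, zpow_natCast, hz2,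
        _root_.one_zpow]; rfl)⟩
  obtain ⟨R, hR⟩ := hzp.exists_le_sylow
  set Rg : Subgroup X := (R : Subgroup X₀).map X₀.subtype with hRg
  set Y : Subgroup X := Subgroup.normalizer (Rg : Set X) with hY
  have hsup : Y ⊔ X₀ = ⊤ := Sylow.normalizer_sup_eq_top R
  have hzY : (z : X) ∈ Y := Subgroup.le_normalizer ⟨z, hR (Subgroup.mem_zpowers z), rfl⟩
  have hYα : Function.Surjective (α.comp Y.subtype) := by
    intro g
    obtain ⟨x, rfl⟩ := hα g
    have hxm : x ∈ Y ⊔ X₀ := hsup ▸ Subgroup.mem_top x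
    obtain ⟨y, hy, n, hn, rfl⟩ := Subgroup.mem_sup_of_normal_right.1 hxm
    rcases hN₀mem _ hn with h | h
    · exact ⟨⟨y, hy⟩, by simp [h]⟩
    · exact ⟨⟨y * z, Y.mul_mem hy hzY⟩, by simp [h, z, map_mul, hz0]⟩
  -- `Y` meets `V₁` in the kernel of `c`, centralising
  have hker : ∀ (y : X) (d : V₁), y ∈ Y → (y : G) = d → (c d).toAdd = 0 ∧ α y = 1 := by
    intro y d hy hyd
    have hα1 : α y = 1 := by
      refine Subtype.ext (Matrix.ext_of_mulVec_single fun i => ?_)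
      obtain ⟨w, hw⟩ := hc (Multiplicative.ofAdd (Pi.single i 1))
      obtain ⟨h, he⟩ := heq y w
      have hconj : (⟨_, h⟩ : V₁) = d * w * d⁻¹ := Subtype.ext (by simp [hyd])
      rw [hconj, map_mul c, map_mul c, map_inv c, mul_inv_cancel_comm, hw, toAdd_ofAdd] at he
      rw [← he]; ext j; simp [Matrix.one_apply, Pi.single_apply, eq_comm]
    refine ⟨?_, hα1⟩
    have hzR : (z : X) ∈ Rg := ⟨z, hR (Subgroup.mem_zpowers z), rfl⟩
    have hzV : ((z : X) : G) ∈ Subgroup.normalizer (V₁ : Set G) := hXV (z : X).2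
    set w : X := y * z * y⁻¹ * (z : X)⁻¹ with hw
    have hwR : w ∈ Rg := Rg.mul_mem ((Subgroup.mem_normalizer_iff.1 hy _).1 hzR) (Rg.inv_mem hzR)
    have hwV : (w : G) ∈ V₁ := by
      have h1 : ((z : X) : G) * (d : G)⁻¹ * ((z : X) : G)⁻¹ ∈ V₁ :=
        (Subgroup.mem_normalizer_iff.1 hzV _).1 (V₁.inv_mem d.2)
      have h2 := V₁.mul_mem d.2 h1
      simpa [hw, hyd, mul_assoc] using h2
    have hw1 : w = 1 := by
      obtain ⟨w₀, hw₀, hww⟩ := hwR
      obtain ⟨i, hi⟩ := R.isPGroup' ⟨w₀, hw₀⟩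
      obtain ⟨j, hj⟩ := hV ⟨(w : G), hwV⟩
      have hi' : (w : G) ^ 2 ^ i = 1 := by
        rw [← hww]
        simpa using congrArg (fun t : (R : Subgroup X₀) => (((t : X₀) : X) : G)) hi
      have hj' : (w : G) ^ p ^ j = 1 := by simpa using congrArg Subtype.val hj
      have := Nat.eq_one_of_dvd_coprimes (Nat.Coprime.pow i j
        ((Nat.coprime_primes Nat.prime_two hp.out).2 hp2.symm))
        (orderOf_dvd_of_pow_eq_one hi') (orderOf_dvd_of_pow_eq_one hj')
      rw [orderOf_eq_one_iff] at this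
      exact Subtype.ext this
    obtain ⟨h, he⟩ := heq (z : X) d
    have hcomm : ((z : X) : G) * d * ((z : X) : G)⁻¹ = d := by
      rw [← hyd]
      have h1 : (y : G) * (z : X) * (y : G)⁻¹ * ((z : X) : G)⁻¹ = 1 := by
        have := congrArg Subtype.val hw1
        simpa [hw] using this
      have h2 : (y : G) * (z : X) = ((z : X) : G) * y :=
        mul_inv_eq_one.1 (by rw [← h1]; group)
      rw [mul_inv_eq_iff_eq_mul, h2]
    rw [show (⟨_, h⟩ : V₁) = d from Subtype.ext hcomm, show α (z : X) = -1 from hz0] at he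
    simp only [Matrix.SpecialLinearGroup.coe_neg, Matrix.SpecialLinearGroup.coe_one,
      Matrix.neg_mulVec, Matrix.one_mulVec] at he
    have h3 : (2 : ZMod p) • (c d).toAdd = 0 := by
      rw [two_smul]; nth_rw 1 [he]; exact neg_add_cancel _
    exact (smul_eq_zero.1 h3).resolve_left h2
  -- the subgroup `V₁ Y` and the map
  let Q : Subgroup G :=
    { carrier := {q | ∃ v : V₁, ∃ y : Y, (v : G) * ((y : X) : G) = q}
      one_mem' := ⟨1, 1, by simp⟩
      mul_mem' := by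
        rintro _ _ ⟨v, y, rfl⟩ ⟨w, u, rfl⟩
        refine ⟨v * ⟨_, (Subgroup.mem_normalizer_iff.1 (hXV (y : X).2) _).1 w.2⟩, y * u, ?_⟩
        simp [mul_assoc]
      inv_mem' := by
        rintro _ ⟨v, y, rfl⟩
        refine ⟨⟨_, (Subgroup.mem_normalizer_iff.1 (hXV (X.inv_mem (y : X).2)) _).1 (V₁.inv_mem v.2)⟩,
          y⁻¹, ?_⟩
        simp [mul_assoc] }
  have hval : ∀ (v w : V₁) (y u : Y), (v : G) * ((y : X) : G) = w * ((u : X) : G) →
      qdMat (c v).toAdd (α y) = qdMat (c w).toAdd (α u) := by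
    intro v w y u h
    obtain ⟨h1, h2'⟩ := hker ((u : X) * (y : X)⁻¹) (w⁻¹ * v) (Y.mul_mem u.2 (Y.inv_mem y.2)) (by
      simp only [Subgroup.coe_mul, Subgroup.coe_inv]
      rw [eq_inv_mul_iff_mul_eq, ← mul_assoc, ← h, mul_inv_cancel_right])
    rw [map_mul, map_inv, toAdd_mul, toAdd_inv, neg_add_eq_sub, sub_eq_zero] at h1
    rw [map_mul, map_inv, mul_inv_eq_one] at h2'
    rw [h1, h2']
  choose vf yf hf using fun q : Q => (q.2 : ∃ v : V₁, ∃ y : Y, (v : G) * ((y : X) : G) = (q : G))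
  let φ : Q →* ↥(Cfsg.qd p) :=
    { toFun := fun q => ⟨qdMat (c (vf q)).toAdd (α (yf q)), qdMat_mem _ _⟩
      map_one' := Subtype.ext (by
        show qdMat _ _ = 1
        rw [hval (vf 1) 1 (yf 1) 1 (by simpa using hf 1)]
        apply Matrix.SpecialLinearGroup.ext
        intro i j
        fin_cases i <;> fin_cases j <;> simp [qdMat])
      map_mul' := fun q q' => Subtype.ext (by
        show qdMat _ _ = qdMat _ _ * qdMat _ _
        obtain ⟨h, he⟩ := heq (yf q : X) (vf q')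
        rw [qdMat_mul, ← he, ← toAdd_mul, ← map_mul, ← map_mul]
        refine hval _ _ _ (yf q * yf q') ?_
        rw [hf, Subgroup.coe_mul, ← hf q, ← hf q']
        simp [mul_assoc]) }
  refine involves_of_surjective φ ?_
  rintro ⟨M, hM⟩
  obtain ⟨v, N, rfl⟩ := exists_qdMat_eq hM
  obtain ⟨w, hw⟩ := hc (Multiplicative.ofAdd v)
  obtain ⟨y, hy⟩ := hYα N
  refine ⟨⟨(w : G) * ((y : X) : G), w, y, rfl⟩, Subtype.ext ?_⟩
  show qdMat _ _ = _
  rw [hval _ w _ y (hf _), hw, toAdd_ofAdd, show α (y : X) = N from hy]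

end Cfsg.Agent.Qd
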