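import Mathlib.GroupTheory.SemidirectProduct
import Cfsg.Agent.Lib.RankTwo.QdMatrices
import Cfsg.Agent.Lib.ConjFun.Basic
import Cfsg.Agent.Lib.PSL2.Basic
import Cfsg.Agent.Lib.PGroup.Thompson

/-!
# A natural `SL(2, p)`-module section gives a section `Qd(p)`

* `involves_qd_of_natural`.
-/

set_option autoImplicit false
set_option linter.style.haveILetI false

namespace Cfsg.Agent.Qd

open Subgroup
open scoped MatrixGroups
open Cfsg.Agent.RankTwo

variable {p : ℕ}

/-- The matrix of a linear element of `Qd(p)`. -/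
def linMat (M : Matrix (Fin 2) (Fin 2) (ZMod p)) : Matrix (Fin 3) (Fin 3) (ZMod p) :=
  !![M 0 0, M 0 1, 0; M 1 0, M 1 1, 0; 0, 0, 1]

theorem det_linMat (M : Matrix (Fin 2) (Fin 2) (ZMod p)) : (linMat M).det = M.det := by
  rw [linMat, Matrix.det_fin_three, Matrix.det_fin_two]
  simp only [Matrix.of_apply, Matrix.cons_val', Matrix.cons_val_zero, Matrix.cons_val_one,
    Matrix.cons_val_fin_one, Matrix.cons_val]
  ring

theorem linMat_one : linMat (1 : Matrix (Fin 2) (Fin 2) (ZMod p)) = 1 := by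
  ext i j
  fin_cases i <;> fin_cases j <;> rfl

theorem linMat_mul (M N : Matrix (Fin 2) (Fin 2) (ZMod p)) :
    linMat (M * N) = linMat M * linMat N := by
  ext i j
  fin_cases i <;> fin_cases j <;>
    simp [linMat, Matrix.mul_apply, Fin.sum_univ_three, Fin.sum_univ_two]

/-- The underlying function of `qdLin`. -/
def qdLinFun (M : SL(2, ZMod p)) : ↥(Cfsg.qd p) :=
  ⟨⟨linMat M.1, (det_linMat M.1).trans M.2⟩, Subgroup.subset_closure ⟨rfl, rfl, rfl⟩⟩

/-- The linear elements of `Qd(p)`. -/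
def qdLin : SL(2, ZMod p) →* ↥(Cfsg.qd p) where
  toFun := qdLinFun
  map_one' := qd_ext linMat_one
  map_mul' M N := qd_ext (linMat_mul M.1 N.1)

theorem qdLin_val (M : SL(2, ZMod p)) :
    ((qdLin M).1 : Matrix (Fin 3) (Fin 3) (ZMod p)) =
      !![M.1 0 0, M.1 0 1, 0; M.1 1 0, M.1 1 1, 0; 0, 0, 1] := rfl

/-- Translations as a homomorphism on column vectors. -/
def qdVec : Multiplicative (Fin 2 → ZMod p) →* ↥(Cfsg.qd p) :=
  MonoidHom.mk' (fun v => qdT (v.toAdd 0, v.toAdd 1)) fun a b => by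
    rw [qdT_mul]; rfl

theorem qdLin_mul_qdVec (M : SL(2, ZMod p)) (v : Multiplicative (Fin 2 → ZMod p)) :
    qdLin M * qdVec v * (qdLin M)⁻¹ =
      qdVec (Multiplicative.ofAdd ((M : Matrix (Fin 2) (Fin 2) (ZMod p)).mulVec v.toAdd)) := by
  rw [mul_inv_eq_iff_eq_mul]
  apply qd_ext
  simp only [qdVec, MonoidHom.mk'_apply, qd_mul_val, qdLin_val, qdT_val, toAdd_ofAdd]
  ext i j
  fin_cases i <;> fin_cases j <;>
    simp [Matrix.mul_apply, Fin.sum_univ_three, Fin.sum_univ_two, Matrix.mulVec, dotProduct]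

theorem exists_eq_vec_mul_lin (g : ↥(Cfsg.qd p)) : ∃ v M, g = qdVec v * qdLin M := by
  obtain ⟨g, hg⟩ := g
  induction hg using Subgroup.closure_induction with
  | mem x hx =>
    have hd := x.2
    rw [Matrix.det_fin_three, hx.1, hx.2.1, hx.2.2] at hd
    let M : SL(2, ZMod p) := ⟨!![x.1 0 0, x.1 0 1; x.1 1 0, x.1 1 1], by
      rw [Matrix.det_fin_two_of]; linear_combination hd⟩
    refine ⟨Multiplicative.ofAdd ![x.1 0 2, x.1 1 2], M, ?_⟩
    apply qd_ext
    simp only [qdVec, MonoidHom.mk'_apply, qd_mul_val, qdLin_val, qdT_val, toAdd_ofAdd]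
    ext i j
    fin_cases i <;> fin_cases j <;>
      simp [M, Matrix.mul_apply, Fin.sum_univ_three, hx.1, hx.2.1, hx.2.2]
  | one => exact ⟨1, 1, by simp only [map_one, mul_one]; rfl⟩
  | mul x y hx' hy' hx hy =>
    obtain ⟨v, M, hxv⟩ := hx
    obtain ⟨w, N, hyw⟩ := hy
    refine ⟨v * Multiplicative.ofAdd ((M : Matrix (Fin 2) (Fin 2) (ZMod p)).mulVec w.toAdd), M * N, ?_⟩
    rw [map_mul, map_mul, ← qdLin_mul_qdVec, show (⟨x * y, _⟩ : ↥(Cfsg.qd p)) =
      ⟨x, hx'⟩ * ⟨y, hy'⟩ from rfl, hxv, hyw]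
    group
  | inv x hx' hx =>
    obtain ⟨v, M, hxv⟩ := hx
    refine ⟨Multiplicative.ofAdd ((M⁻¹ : SL(2, ZMod p)).1.mulVec (v⁻¹).toAdd), M⁻¹, ?_⟩
    rw [← qdLin_mul_qdVec, show (⟨x⁻¹, _⟩ : ↥(Cfsg.qd p)) = (⟨x, hx'⟩)⁻¹ from rfl, hxv, map_inv,
      map_inv]
    group

variable [Fact p.Prime]

theorem eq_one_of_pow_two_pow {p : ℕ} (hp : p.Prime) (h2 : p ≠ 2) {H : Type*} [Group H] {x : H}
    {i j : ℕ} (h : x ^ p ^ i = 1) (h' : x ^ 2 ^ j = 1) : x = 1 := by
  refine orderOf_eq_one_iff.1 (Nat.eq_one_of_dvd_coprimes ?_ (orderOf_dvd_of_pow_eq_one h)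
    (orderOf_dvd_of_pow_eq_one h'))
  exact Nat.Coprime.pow _ _ ((Nat.coprime_primes hp Nat.prime_two).2 h2)

theorem two_ne_zero' (h2 : p ≠ 2) : (2 : ZMod p) ≠ 0 :=
  Ring.two_ne_zero (by rwa [ringChar.eq (ZMod p) p])

/-- A `p`-subgroup `A` mapped equivariantly onto the natural module of `SL(2, p)`. -/
theorem involves_qd_of_natural {G : Type*} [Group G] [Finite G] (h2 : p ≠ 2) {A X : Subgroup G}
    (hAp : IsPGroup p A) (hXA : X ≤ normalizer (A : Set G))
    (π : X →* SL(2, ZMod p)) (hπ : Function.Surjective π)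
    (g : A →* Multiplicative (Fin 2 → ZMod p)) (hg : Function.Surjective g)
    (heq : ∀ (x : X) (a : A), g ⟨(x : G) * a * (x : G)⁻¹, (mem_normalizer_iff.1 (hXA x.2) a).1 a.2⟩ =
      Multiplicative.ofAdd ((π x : Matrix (Fin 2) (Fin 2) (ZMod p)).mulVec (g a).toAdd)) :
    Cfsg.Involves ↥(Cfsg.qd p) G := by
  haveI : Fact (Nat.Prime 2) := ⟨Nat.prime_two⟩
  have hF := two_ne_zero' h2
  have hm1 : (-1 : SL(2, ZMod p)) ≠ 1 := fun h => hF (PSL2.neg_one_eq_one_iff.1 h)
  set Z := zpowers (-1 : SL(2, ZMod p))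
  haveI : Z.Normal := ⟨fun z hz x => by
    obtain ⟨k, rfl⟩ := hz
    rw [← conj_zpow, show x * -1 * x⁻¹ = (-1 : SL(2, ZMod p)) by simp]
    exact zpow_mem (mem_zpowers _) k⟩
  set M := Z.comap π with hM
  obtain ⟨T⟩ : Nonempty (Sylow 2 M) := inferInstance
  set T' := (T : Subgroup M).map M.subtype with hT'
  set X₁ := normalizer (T' : Set X) with hX₁
  have hfr : X₁ ⊔ M = ⊤ := Sylow.normalizer_sup_eq_top T
  -- `T` contains a lift of `-1`
  obtain ⟨t, htT, ht⟩ : ∃ t ∈ T', π t = -1 := by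
    by_contra! hno
    let f : M →* Z := (π.comp M.subtype).codRestrict Z fun x => x.2
    have hf : Function.Surjective f := by
      rintro ⟨z, hz⟩
      obtain ⟨x, rfl⟩ := hπ z
      exact ⟨⟨x, hz⟩, rfl⟩
    have hZ : IsPGroup 2 Z := fun z => ⟨1, Subtype.ext (by
      obtain ⟨k, hk⟩ := z.2
      rw [pow_one, Subgroup.coe_pow, Subgroup.coe_one, ← hk]
      dsimp only
      rw [← zpow_natCast, ← zpow_mul, mul_comm, zpow_mul, zpow_natCast, neg_one_sq, one_zpow])⟩
    have h1 : ((T.mapSurjective hf : Sylow 2 Z) : Subgroup Z) = ⊤ :=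
      ((T.mapSurjective hf).is_maximal' (hZ.of_equiv topEquiv.symm) le_top).symm
    obtain ⟨m, hmT, hm⟩ : (⟨-1, mem_zpowers _⟩ : Z) ∈ (T : Subgroup M).map f := by
      rw [← Sylow.coe_mapSurjective hf, h1]; exact mem_top _
    exact hno m (mem_map_of_mem _ hmT) (congrArg Subtype.val hm)
  have htX₁ : t ∈ X₁ := le_normalizer htT
  have hπ₁ : ∀ s, ∃ x ∈ X₁, π x = s := by
    intro s
    obtain ⟨x, rfl⟩ := hπ s
    haveI : M.Normal := Normal.comap ‹_› π
    obtain ⟨y, hy, m, hm, rfl⟩ :=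
      mem_sup_of_normal_right.1 (hfr ▸ mem_top x : x ∈ X₁ ⊔ M)
    obtain ⟨k, hk⟩ := hm
    exact ⟨y * t ^ k, mul_mem hy (zpow_mem htX₁ k), by
      simp only at hk
      rw [map_mul, map_mul, map_zpow, ht, hk]⟩
  -- the semidirect product
  have hleN : X₁.map X.subtype ≤ normalizer (A : Set G) := (map_subtype_le _).trans hXA
  let act : X₁ →* MulAut A :=
    (A.normalizerMonoidHom).comp ((inclusion hXA).comp X₁.subtype)
  let ρ : A ⋊[act] X₁ →* G := SemidirectProduct.lift A.subtype (X.subtype.comp X₁.subtype)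
    fun x => MonoidHom.ext fun a => rfl
  let σ : A ⋊[act] X₁ →* ↥(Cfsg.qd p) := SemidirectProduct.lift (qdVec.comp g)
    (qdLin.comp (π.comp X₁.subtype)) fun x => MonoidHom.ext fun a => by
      show qdVec (g _) = qdLin (π x) * qdVec (g a) * (qdLin (π x))⁻¹
      rw [qdLin_mul_qdVec, ← heq]
      rfl
  have hσ : Function.Surjective σ := by
    intro y
    obtain ⟨v, s, rfl⟩ := exists_eq_vec_mul_lin y
    obtain ⟨a, rfl⟩ := hg v
    obtain ⟨x, hx, rfl⟩ := hπ₁ s
    exact ⟨⟨a, ⟨x, hx⟩⟩, rfl⟩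
  have hker : ∀ w, ρ w = 1 → σ w = 1 := by
    rintro ⟨a, x⟩ hw
    have hw' : (a : G) * ((x : X) : G) = 1 := hw
    have hxA : ((x : X) : G) ∈ A := by
      rw [eq_inv_of_mul_eq_one_right hw']; exact inv_mem a.2
    -- `x` acts trivially
    have hx1 : π x = 1 := by
      have h : ∀ v, (π x : Matrix (Fin 2) (Fin 2) (ZMod p)).mulVec v = v := by
        intro v
        obtain ⟨b, hb⟩ := hg (Multiplicative.ofAdd v)
        have := heq x b
        rw [hb, toAdd_ofAdd] at this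
        apply Multiplicative.ofAdd.injective
        rw [← this, ← hb,
          show (⟨((x : X) : G) * b * ((x : X) : G)⁻¹, _⟩ : A) =
            ⟨_, hxA⟩ * b * (⟨_, hxA⟩ : A)⁻¹ from Subtype.ext rfl,
          map_mul, map_mul, map_inv, mul_comm (g ⟨_, hxA⟩), mul_inv_cancel_right]
      apply Subtype.ext
      apply Matrix.toLin'.injective
      exact LinearMap.ext fun v => by simpa using h v
    -- `[x, t] ∈ T ∩ A = 1`
    have hc : ((x : X) : G) * (t : G) = (t : G) * ((x : X) : G) := by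
      have hcT : (x : X) * t * (x : X)⁻¹ * t⁻¹ ∈ T' :=
        mul_mem ((mem_normalizer_iff.1 x.2 t).1 htT) (inv_mem htT)
      have hcA : ((x : X) : G) * t * ((x : X) : G)⁻¹ * (t : G)⁻¹ ∈ A := by
        rw [mul_assoc, mul_assoc, ← mul_assoc (t : G)]
        exact mul_mem hxA ((mem_normalizer_iff.1 (hXA t.2) _).1 (inv_mem hxA))
      obtain ⟨j, hj⟩ := (T.2.map M.subtype) ⟨_, hcT⟩
      obtain ⟨i, hi⟩ := hAp ⟨_, hcA⟩
      have h1 := eq_one_of_pow_two_pow (H := G) Fact.out h2 (congrArg Subtype.val hi)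
        (congrArg (fun z : T' => ((z : X) : G)) hj)
      rwa [mul_inv_eq_one, mul_inv_eq_iff_eq_mul] at h1
    have hga : g a = 1 := by
      have ha : (a : G) = ((x : X) : G)⁻¹ := eq_inv_of_mul_eq_one_left hw'
      have := heq t a
      rw [show (⟨(t : G) * a * (t : G)⁻¹, _⟩ : A) = a from Subtype.ext (by
        show (t : G) * a * (t : G)⁻¹ = a
        rw [mul_inv_eq_iff_eq_mul, ha]
        exact (inv_mul_eq_iff_eq_mul.2 (by rw [← mul_assoc, hc, mul_inv_cancel_right])).symm),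
        ht] at this
      apply Multiplicative.toAdd.injective
      have e := congrArg Multiplicative.toAdd this
      rw [toAdd_ofAdd] at e
      simp [Matrix.neg_mulVec] at e
      funext i
      have ei := congrFun e i
      simp at ei
      have : (2 : ZMod p) * (g a).toAdd i = 0 := by linear_combination ei
      simpa using (mul_eq_zero.1 this).resolve_left hF
    show qdVec (g a) * qdLin (π x) = 1
    rw [hga, hx1, map_one, map_one, one_mul]
  let φ : ρ.range →* ↥(Cfsg.qd p) :=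
    (ρ.rangeRestrict.liftOfSurjective ρ.rangeRestrict_surjective)
      ⟨σ, fun w hw => hker w (congrArg Subtype.val (MonoidHom.mem_ker.1 hw))⟩
  refine ConjFun.involves_of_surjective ρ.range φ fun y => ?_
  obtain ⟨w, rfl⟩ := hσ y
  exact ⟨ρ.rangeRestrict w, MonoidHom.liftOfRightInverse_comp_apply _ _ _ _ _⟩

end Cfsg.Agent.Qd
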