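import Mathlib.LinearAlgebra.Dual.Lemmas
import Cfsg.Agent.Lib.Quadratic.Dickson
import Cfsg.Agent.Lib.Qd.Section

/-!
# A quadratic pair gives a section `Qd(p)`

* `exists_intertwiner`: the `SL(2, K)` image comes from a subquotient of the module;
* `exists_frame`: an injective hom `SL(2, ZMod p) → SL(2, K)` is the natural one in some frame;
* `exists_natural_hom`: descent of the natural module to the prime field;
* `involves_qd_of_pair`.
-/

set_option autoImplicit false
set_option linter.style.haveILetI false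

namespace Cfsg.Agent.Qd

open scoped MatrixGroups commutatorElement
open Matrix

universe u v w

section Linear

open Cfsg.Agent.Quadratic Polynomial

variable {K : Type u} [Field K] {p : ℕ} [hp : Fact p.Prime] [CharP K p] {H : Type w} [Group H]
  [Finite H]

/-- `U` is invariant and `f` maps it equivariantly onto the column vectors. -/
def IsFactor {W : Type v} [AddCommGroup W] [Module K W] (ρ : H →* Module.End K W)
    (φ : H →* SL(2, K)) (U : Submodule K W) (f : U →ₗ[K] (Fin 2 → K)) : Prop :=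
  Function.Surjective f ∧ ∃ hU : ∀ h, ∀ x ∈ U, ρ h x ∈ U,
    ∀ h (x : U), f ⟨ρ h x, hU h x x.2⟩ = (φ h : Matrix (Fin 2) (Fin 2) K) *ᵥ f x

theorem exists_intertwiner_aux {a b : H} (hgen : Subgroup.closure ({a, b} : Set H) = ⊤)
    {N : ℕ} (hN : 0 < N) (hab : (a * b) ^ N = 1) (hsplit : (X ^ N - 1 : K[X]).Splits) (n : ℕ) :
    ∀ (W : Type v) [AddCommGroup W] [Module K W] [FiniteDimensional K W],
      Module.finrank K W = n → ∀ ρ : H →* Module.End K W,
      (ρ a - 1) * (ρ a - 1) = 0 → (ρ b - 1) * (ρ b - 1) = 0 → ¬ PImage p ρ →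
      ∃ φ : H →* SL(2, K), ¬ PImage p φ ∧ φ a ^ p = 1 ∧ φ b ^ p = 1 ∧
        ∃ (U : Submodule K W) (f : U →ₗ[K] (Fin 2 → K)), IsFactor ρ φ U f := by
  induction n using Nat.strong_induction_on with
  | _ n ih =>
  intro W _ _ _ hn ρ ha hb hnp
  by_cases hirr : ∀ U : Submodule K W, (∀ h, ∀ x ∈ U, ρ h x ∈ U) → U = ⊥ ∨ U = ⊤
  · obtain ⟨φ, h1, h2, h3, e, he⟩ := exists_SL2_of_irreducible hgen ρ hN hab hsplit ha hb hirr hnp
    exact ⟨φ, h1, h2, h3, ⊤, e.toLinearMap.comp (⊤ : Submodule K W).subtype,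
      fun y => ⟨⟨e.symm y, trivial⟩, e.apply_symm_apply y⟩, fun _ _ _ => trivial,
      fun h x => he h x⟩
  push Not at hirr
  obtain ⟨U, hU, hbot, htop⟩ := hirr
  by_cases h1 : PImage p (resHom ρ U hU)
  · by_cases h2 : PImage p (quotHom ρ U hU)
    · refine absurd (fun h => ?_) hnp
      obtain ⟨k, hk⟩ := h1 h
      obtain ⟨l, hl⟩ := h2 (h ^ p ^ k)
      refine ⟨k + l + 1, ?_⟩
      set g := (h ^ p ^ k) ^ p ^ l with hg
      have hres : ∀ x ∈ U, ρ g x = x := by
        intro x hx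
        have : resHom ρ U hU g = 1 := by rw [hg, map_pow, hk, one_pow]
        exact congrArg Subtype.val (LinearMap.congr_fun this ⟨x, hx⟩)
      have hquot : ∀ x, ρ g x - x ∈ U := fun x => by
        have := LinearMap.congr_fun hl (Submodule.Quotient.mk x)
        rw [← Submodule.Quotient.eq]
        simpa [quotHom] using this
      have hq : (ρ g - 1) * (ρ g - 1) = 0 := LinearMap.ext fun x => by
        simp only [Module.End.mul_apply, LinearMap.sub_apply, Module.End.one_apply,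
          LinearMap.zero_apply]
        rw [hres _ (hquot x), sub_self]
      have := Quadratic.pow_eq_one_of_quadratic (p := p) hq
      rw [← map_pow, hg] at this
      rw [pow_succ, pow_add, pow_mul, pow_mul]
      exact this
    · have hlt : Module.finrank K (W ⧸ U) < n := by
        have h3 := U.finrank_quotient_add_finrank
        have : 0 < Module.finrank K U := by
          rw [Nat.pos_iff_ne_zero, Ne, Submodule.finrank_eq_zero]; exact hbot
        omega
      obtain ⟨φ, q1, q2, q3, U', f, hf, hU', he⟩ :=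
        ih _ hlt _ rfl _ (quadratic_quot ha) (quadratic_quot hb) h2
      refine ⟨φ, q1, q2, q3, U'.comap U.mkQ, f.comp (U.mkQ.restrict fun _ hx => hx), ?_, ?_, ?_⟩
      · intro y
        obtain ⟨⟨x, hx⟩, rfl⟩ := hf y
        obtain ⟨w, rfl⟩ := U.mkQ_surjective x
        exact ⟨⟨w, hx⟩, rfl⟩
      · exact fun h x hx => hU' h _ hx
      · exact fun h x => he h ⟨_, x.2⟩
  · have hlt : Module.finrank K U < n := hn ▸ Submodule.finrank_lt htop
    obtain ⟨φ, q1, q2, q3, U', f, hf, hU', he⟩ :=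
      ih _ hlt _ rfl _ (quadratic_res ha) (quadratic_res hb) h1
    have hinv : ∀ h, ∀ x ∈ U'.map U.subtype, ρ h x ∈ U'.map U.subtype := by
      rintro h _ ⟨x, hx, rfl⟩
      exact ⟨_, hU' h x hx, rfl⟩
    let E := Submodule.equivMapOfInjective U.subtype U.subtype_injective U'
    refine ⟨φ, q1, q2, q3, U'.map U.subtype, f.comp E.symm.toLinearMap,
      hf.comp E.symm.surjective, hinv, fun h x => ?_⟩
    obtain ⟨x, rfl⟩ := E.surjective x
    have e : (⟨ρ h (E x : W), hinv h _ (E x).2⟩ : U'.map U.subtype) =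
        E ⟨resHom ρ U hU h x, hU' h _ x.2⟩ := Subtype.ext rfl
    rw [e]
    simpa using he h x

theorem exists_intertwiner {a b : H} (hgen : Subgroup.closure ({a, b} : Set H) = ⊤)
    {W : Type v} [AddCommGroup W] [Module K W] [FiniteDimensional K W] (ρ : H →* Module.End K W)
    {N : ℕ} (hN : 0 < N) (hab : (a * b) ^ N = 1) (hsplit : (X ^ N - 1 : K[X]).Splits)
    (ha : (ρ a - 1) * (ρ a - 1) = 0) (hb : (ρ b - 1) * (ρ b - 1) = 0) (hnp : ¬ PImage p ρ) :
    ∃ φ : H →* SL(2, K), ¬ PImage p φ ∧ φ a ^ p = 1 ∧ φ b ^ p = 1 ∧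
      ∃ (U : Submodule K W) (f : U →ₗ[K] (Fin 2 → K)), IsFactor ρ φ U f :=
  exists_intertwiner_aux hgen hN hab hsplit _ W rfl ρ ha hb hnp

end Linear

section Frame

variable {K : Type u} [Field K] {p : ℕ} [hp : Fact p.Prime] [CharP K p]

theorem sub_one_sq_of_pow_eq_one (g : SL(2, K)) (h : g ^ p = 1) :
    ((g : Matrix (Fin 2) (Fin 2) K) - 1) * ((g : Matrix (Fin 2) (Fin 2) K) - 1) = 0 := by
  set T := ((g : Matrix (Fin 2) (Fin 2) K) - 1) with hT
  have hg : (g : Matrix (Fin 2) (Fin 2) K) ^ p = 1 := by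
    rw [← Matrix.SpecialLinearGroup.coe_pow, h, Matrix.SpecialLinearGroup.coe_one]
  have hnil : IsNilpotent T := ⟨p, by
    rw [hT, sub_pow_char_of_commute (p := p) (Commute.one_right _), hg, one_pow, sub_self]⟩
  have htr := (Matrix.isNilpotent_trace_of_isNilpotent hnil).eq_zero
  obtain ⟨n, hn⟩ := hnil
  have hdet : T.det = 0 := eq_zero_of_pow_eq_zero (n := n)
    (by rw [← Matrix.det_pow, hn, Matrix.det_zero])
  rw [Matrix.det_fin_two] at hdet
  rw [Matrix.trace_fin_two] at htr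
  ext i j
  fin_cases i <;> fin_cases j <;> simp [Matrix.mul_apply, Fin.sum_univ_two]
  · linear_combination T 0 0 * htr - hdet
  · linear_combination T 0 1 * htr
  · linear_combination T 1 0 * htr
  · linear_combination T 1 1 * htr - hdet

theorem exists_frame (h2 : p ≠ 2) (θ : SL(2, ZMod p) →* SL(2, K)) (hθ : Function.Injective θ) :
    ∃ g : Matrix (Fin 2) (Fin 2) K, g.det ≠ 0 ∧ ∀ M : SL(2, ZMod p),
      (θ M : Matrix (Fin 2) (Fin 2) K) * g =
        g * (M : Matrix (Fin 2) (Fin 2) (ZMod p)).map (ZMod.castHom (dvd_refl p) K) := by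
  have hK2 : (2 : K) ≠ 0 := Ring.two_ne_zero (by rwa [ringChar.eq K p])
  set T := (θ (PSL2.uu 1) : Matrix (Fin 2) (Fin 2) K) with hT
  set L := (θ (PSL2.ll 1) : Matrix (Fin 2) (Fin 2) K) with hL
  have hu : (PSL2.uu (1 : ZMod p)) ^ p = 1 := by rw [PSL2.uu_pow]; simp
  have hl : (PSL2.ll (1 : ZMod p)) ^ p = 1 := by
    have : ∀ n : ℕ, (PSL2.ll (1 : ZMod p)) ^ n = PSL2.ll (n : ZMod p) := by
      intro n
      induction n with
      | zero => simp
      | succ n ih => rw [pow_succ, ih, PSL2.ll_mul_ll, Nat.cast_succ]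
    rw [this]; simp
  have hN2 : (T - 1) * (T - 1) = 0 := sub_one_sq_of_pow_eq_one _ (by rw [← map_pow, hu, map_one])
  have hR2 : (L - 1) * (L - 1) = 0 := sub_one_sq_of_pow_eq_one _ (by rw [← map_pow, hl, map_one])
  have hncomm : T * L ≠ L * T := by
    intro h
    have e := hθ (show θ (PSL2.uu 1 * PSL2.ll 1) = θ (PSL2.ll 1 * PSL2.uu 1) by
      apply Subtype.ext; simpa [map_mul] using h)
    have := congrArg (fun m : SL(2, ZMod p) => m 0 0) e
    simp only [PSL2.mul00] at this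
    simp [PSL2.uu, PSL2.ll] at this
  obtain ⟨x, hx⟩ : ∃ x, (T - 1) *ᵥ x ≠ 0 := by
    by_contra! h
    refine hncomm ?_
    have : T - 1 = 0 := Matrix.toLin'.injective (LinearMap.ext fun y => by
      rw [Matrix.toLin'_apply, h, map_zero, LinearMap.zero_apply])
    rw [sub_eq_zero.1 this, one_mul, mul_one]
  set v₀ := (T - 1) *ᵥ x with hv₀
  have hNv₀ : (T - 1) *ᵥ v₀ = 0 := by rw [hv₀, mulVec_mulVec, hN2, zero_mulVec]
  set w₀ := (L - 1) *ᵥ v₀ with hw₀
  have hRw : (L - 1) *ᵥ w₀ = 0 := by rw [hw₀, mulVec_mulVec, hR2, zero_mulVec]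
  have hbasis : ∀ (v w : Fin 2 → K), v ≠ 0 → (∀ c : K, w ≠ c • v) → ∀ y, ∃ s t : K, y = s • v + t • w := by
    intro v w hv hw y
    have hli : LinearIndependent K ![v, w] := by
      rw [LinearIndependent.pair_iff' hv]; exact fun c h => hw c h.symm
    have hs := hli.span_eq_top_of_card_eq_finrank (by simp)
    have : y ∈ Submodule.span K (Set.range ![v, w]) := hs ▸ Submodule.mem_top
    rw [Matrix.range_cons_cons_empty, Submodule.mem_span_pair] at this
    obtain ⟨s, t, h⟩ := this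
    exact ⟨s, t, h.symm⟩
  have hw₀ne : w₀ ≠ 0 := by
    intro h0
    have hxi : ∀ c : K, x ≠ c • v₀ := fun c h => hx (by rw [hv₀, h, mulVec_smul, hNv₀, smul_zero])
    obtain ⟨s, t, hst⟩ := hbasis v₀ x hx hxi ((L - 1) *ᵥ x)
    have hL0 : (L - 1) *ᵥ v₀ = 0 := h0
    have ht : t = 0 := by
      have h := congrArg ((L - 1) *ᵥ ·) hst
      simp only [mulVec_mulVec, hR2, zero_mulVec, mulVec_add, mulVec_smul, hL0, smul_zero,
        zero_add] at h
      rcases smul_eq_zero.1 h.symm with h | h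
      · exact h
      · rw [hst] at h
        by_contra htn
        refine hxi (-(t⁻¹ * s)) ?_
        have := congrArg (t⁻¹ • ·) h
        simp only [smul_add, smul_smul, inv_mul_cancel₀ htn, one_smul, smul_zero] at this
        rw [neg_smul]
        exact eq_neg_of_add_eq_zero_right this
    refine hncomm (Matrix.toLin'.injective (LinearMap.ext fun y => ?_))
    obtain ⟨a, b, rfl⟩ := hbasis v₀ x hx hxi y
    rw [ht, zero_smul, add_zero] at hst
    have hT' : ∀ z, T *ᵥ z = z + (T - 1) *ᵥ z := fun z => by rw [sub_mulVec, one_mulVec]; abel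
    have hL' : ∀ z, L *ᵥ z = z + (L - 1) *ᵥ z := fun z => by rw [sub_mulVec, one_mulVec]; abel
    simp only [Matrix.toLin'_apply, ← mulVec_mulVec]
    simp only [hT', hL', mulVec_add, mulVec_smul, mulVec_zero, hNv₀, hL0, smul_zero, hst, ← hv₀]
    abel
  have hwi : ∀ c : K, w₀ ≠ c • v₀ := by
    intro c h
    have hc : c ≠ 0 := fun hc => hw₀ne (by rw [h, hc, zero_smul])
    have h' := congrArg ((L - 1) *ᵥ ·) h
    simp only [hRw, mulVec_smul, ← hw₀] at h'
    exact hw₀ne ((smul_eq_zero.1 h'.symm).resolve_left hc)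
  obtain ⟨c, β, hNw⟩ := hbasis v₀ w₀ hx hwi ((T - 1) *ᵥ w₀)
  have hβ : β = 0 := by
    have h := congrArg ((T - 1) *ᵥ ·) hNw
    simp only [mulVec_mulVec, hN2, zero_mulVec, mulVec_add, mulVec_smul, hNv₀, smul_zero,
      zero_add] at h
    rcases smul_eq_zero.1 h.symm with h | h
    · exact h
    · by_contra hb
      rw [hNw] at h
      refine hwi (-(β⁻¹ * c)) ?_
      have := congrArg (β⁻¹ • ·) h
      simp only [smul_add, smul_smul, inv_mul_cancel₀ hb, one_smul, smul_zero] at this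
      rw [neg_smul]
      exact eq_neg_of_add_eq_zero_right this
  rw [hβ, zero_smul, add_zero] at hNw
  have hc0 : c ≠ 0 := by
    intro hc
    rw [hc, zero_smul] at hNw
    obtain ⟨s, t, hst⟩ := hbasis v₀ w₀ hx hwi x
    exact hx (by rw [hv₀, hst, mulVec_add, mulVec_smul, mulVec_smul, hNv₀, hNw]; simp)
  set v₁ := c⁻¹ • w₀ with hv₁
  set g : Matrix (Fin 2) (Fin 2) K := !![v₀ 0, v₁ 0; v₀ 1, v₁ 1] with hgdef
  have hg : g.det ≠ 0 := by
    intro h
    rw [hgdef, Matrix.det_fin_two_of] at h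
    simp only [hv₁, Pi.smul_apply, smul_eq_mul] at h
    have h' : v₀ 0 * w₀ 1 = w₀ 0 * v₀ 1 := by
      field_simp at h
      linear_combination h
    by_cases h0 : v₀ 0 = 0
    · have h1 : v₀ 1 ≠ 0 := fun h1 => hx (funext fun i => by fin_cases i <;> assumption)
      rw [h0, zero_mul] at h'
      refine hwi (w₀ 1 / v₀ 1) (funext fun i => ?_)
      fin_cases i <;> simp [h0, h1, (mul_eq_zero.1 h'.symm).resolve_right h1]
    · refine hwi (w₀ 0 / v₀ 0) (funext fun i => ?_)
      fin_cases i <;> simp [h0]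
      field_simp
      linear_combination h'
  have hTg : T * g = g * !![1, 1; 0, 1] := by
    have e1 : (T - 1) *ᵥ v₁ = v₀ := by
      rw [hv₁, mulVec_smul, hNw, smul_smul, inv_mul_cancel₀ hc0, one_smul]
    have a := congrFun hNv₀
    have b := congrFun e1
    simp only [Matrix.mulVec, dotProduct, Fin.sum_univ_two, Pi.zero_apply, Matrix.sub_apply] at a b
    ext i j
    fin_cases i <;> fin_cases j <;> simp [g, Matrix.mul_apply, Fin.sum_univ_two]
    · have := a 0; simp at this; linear_combination this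
    · have := b 0; simp at this; linear_combination this
    · have := a 1; simp at this; linear_combination this
    · have := b 1; simp at this; linear_combination this
  have hLg : L * g = g * !![1, 0; c, 1] := by
    have e1 : (L - 1) *ᵥ v₀ = c • v₁ := by
      rw [hv₁, smul_smul, mul_inv_cancel₀ hc0, one_smul]
    have e2 : (L - 1) *ᵥ v₁ = 0 := by rw [hv₁, mulVec_smul, hRw, smul_zero]
    have a := congrFun e1
    have b := congrFun e2
    simp only [Matrix.mulVec, dotProduct, Fin.sum_univ_two, Pi.zero_apply, Matrix.sub_apply,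
      Pi.smul_apply, smul_eq_mul] at a b
    ext i j
    fin_cases i <;> fin_cases j <;> simp [g, Matrix.mul_apply, Fin.sum_univ_two]
    · have := a 0; simp at this; linear_combination this
    · have := b 0; simp at this; linear_combination this
    · have := a 1; simp at this; linear_combination this
    · have := b 1; simp at this; linear_combination this
  -- `c = 1` from `(uu 1 · ll (-1) · uu 1) ^ 2 = -1`
  have hgu : IsUnit g := (Matrix.isUnit_iff_isUnit_det g).2 (isUnit_iff_ne_zero.2 hg)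
  have hc1 : c = 1 := by
    have hm : θ (-1) = -1 := by
      refine (PSL2.eq_pm_of_mul_self_eq_one hK2 ?_).resolve_left fun h => ?_
      · rw [← map_mul]; simp
      · have := hθ (h.trans (map_one θ).symm)
        exact (Ring.two_ne_zero (by rwa [ringChar.eq (ZMod p) p]) : (2 : ZMod p) ≠ 0)
          (PSL2.neg_one_eq_one_iff.1 this)
    have hl' : PSL2.ll (-1 : ZMod p) = (PSL2.ll 1)⁻¹ := by rw [PSL2.ll_inv]
    have hw : θ (PSL2.uu 1 * PSL2.ll (-1) * PSL2.uu 1 * (PSL2.uu 1 * PSL2.ll (-1) * PSL2.uu 1))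
        = -1 := by
      rw [show PSL2.uu (1 : ZMod p) * PSL2.ll (-1) * PSL2.uu 1 *
          (PSL2.uu 1 * PSL2.ll (-1) * PSL2.uu 1) = -1 by
          apply PSL2.ext2 <;> simp only [PSL2.mul00, PSL2.mul01, PSL2.mul10, PSL2.mul11] <;>
            simp [PSL2.uu, PSL2.ll], hm]
    have hLi : ((θ (PSL2.ll (-1)) : SL(2, K)) : Matrix (Fin 2) (Fin 2) K) * g = g * !![1, 0; -c, 1] := by
      have h1 : ((θ (PSL2.ll (-1)) : SL(2, K)) : Matrix (Fin 2) (Fin 2) K) * L = 1 := by
        rw [hL, ← Matrix.SpecialLinearGroup.coe_mul, ← map_mul, hl', inv_mul_cancel, map_one,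
          Matrix.SpecialLinearGroup.coe_one]
      have h2 : g = L * g * !![1, 0; -c, 1] := by
        rw [hLg, mul_assoc, show !![(1 : K), 0; c, 1] * !![1, 0; -c, 1] = 1 by
          ext i j; fin_cases i <;> fin_cases j <;> simp [Matrix.mul_apply, Fin.sum_univ_two], mul_one]
      conv_lhs => rw [h2]
      rw [← mul_assoc, ← mul_assoc, h1, one_mul]
    have e := congrArg (fun m : SL(2, K) => (m : Matrix (Fin 2) (Fin 2) K) * g) hw
    simp only [map_mul, Matrix.SpecialLinearGroup.coe_mul, Matrix.SpecialLinearGroup.coe_neg,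
      Matrix.SpecialLinearGroup.coe_one, ← hT] at e
    simp only [mul_assoc, hTg, hLi] at e
    simp only [← mul_assoc (T) g, hTg, ← mul_assoc ((θ (PSL2.ll (-1)) : SL(2, K)) : Matrix (Fin 2) (Fin 2) K) g,
      hLi, mul_assoc, neg_mul, one_mul] at e
    rw [← mul_neg_one g] at e
    replace e := hgu.mul_left_cancel e
    · have h10 := congrFun (congrFun e 1) 0
      simp [Matrix.mul_apply, Fin.sum_univ_two] at h10
      have : c * (1 - c) = 0 := by
        have h2c : (2 : K) * (c * (1 - c)) = 0 := by linear_combination -h10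
        exact (mul_eq_zero.1 h2c).resolve_left hK2
      exact (sub_eq_zero.1 ((mul_eq_zero.1 this).resolve_left hc0)).symm
  subst hc1
  refine ⟨g, hg, ?_⟩
  let i : ZMod p →+* K := ZMod.castHom (dvd_refl p) K
  let S : Submonoid SL(2, ZMod p) :=
    { carrier := {M | (θ M : Matrix (Fin 2) (Fin 2) K) * g = g * (M : Matrix (Fin 2) (Fin 2) (ZMod p)).map i}
      one_mem' := by simp
      mul_mem' := fun {M N} hM hN => by
        simp only [Set.mem_ofPred_eq] at *
        rw [map_mul, Matrix.SpecialLinearGroup.coe_mul, Matrix.SpecialLinearGroup.coe_mul,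
          Matrix.map_mul, mul_assoc, hN, ← mul_assoc, hM, mul_assoc] }
  let S' : Subgroup SL(2, ZMod p) :=
    { S with
      inv_mem' := fun {M} hM => by
        obtain ⟨n, hn⟩ : M⁻¹ ∈ Submonoid.powers M := by
          rw [mem_powers_iff_mem_zpowers]; exact inv_mem (Subgroup.mem_zpowers M)
        rw [← hn]
        exact S.pow_mem hM n }
  have huS : PSL2.uu (1 : ZMod p) ∈ S' := by
    show T * g = _
    rw [hTg]; congr 1
    ext a b; fin_cases a <;> fin_cases b <;> simp [i, PSL2.uu]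
  have hlS : PSL2.ll (1 : ZMod p) ∈ S' := by
    show L * g = _
    rw [hLg]; congr 1
    ext a b; fin_cases a <;> fin_cases b <;> simp [i, PSL2.ll]
  have htop : S' = ⊤ := PSL2.eq_top_of_uu_ll
    (fun t => by
      have := S'.pow_mem huS t.val
      rwa [PSL2.uu_pow, mul_one, ZMod.natCast_rightInverse t] at this)
    (fun t => by
      have := S'.pow_mem hlS t.val
      rwa [PSL2.ll_pow, mul_one, ZMod.natCast_rightInverse t] at this)
  exact fun M => (htop ▸ Subgroup.mem_top M : M ∈ S')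

end Frame

section Descent

variable {p : ℕ} [hp : Fact p.Prime]

theorem exists_ne_zero_of_ne_bot' {V : Type*} [AddCommGroup V] {A : AddSubgroup V} (h : A ≠ ⊥) :
    ∃ v ∈ A, v ≠ 0 := by
  by_contra! hn
  exact h (eq_bot_iff.2 fun v hv => AddSubgroup.mem_bot.2 (hn v hv))

/-- The natural module is irreducible. -/
theorem natural_irreducible (A : AddSubgroup (Fin 2 → ZMod p))
    (hA : ∀ (M : SL(2, ZMod p)), ∀ v ∈ A, (M : Matrix (Fin 2) (Fin 2) (ZMod p)) *ᵥ v ∈ A)
    (hne : A ≠ ⊥) : A = ⊤ := by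
  obtain ⟨v, hv, hv0⟩ := exists_ne_zero_of_ne_bot' hne
  have hmul : ∀ (t : ZMod p), ∀ w ∈ A, t • w ∈ A := by
    intro t w hw
    rw [← ZMod.natCast_rightInverse t, Nat.cast_smul_eq_nsmul]
    exact A.nsmul_mem hw _
  have hU : ∀ (w : Fin 2 → ZMod p), w ∈ A → ![w 1, 0] ∈ A := fun w hw => by
    have := A.sub_mem (hA (PSL2.uu 1) w hw) hw
    convert this using 1
    ext i; fin_cases i <;> simp [Matrix.mulVec, dotProduct, Fin.sum_univ_two, PSL2.uu]
  have hL : ∀ (w : Fin 2 → ZMod p), w ∈ A → ![0, w 0] ∈ A := fun w hw => by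
    have := A.sub_mem (hA (PSL2.ll 1) w hw) hw
    convert this using 1
    ext i; fin_cases i <;> simp [Matrix.mulVec, dotProduct, Fin.sum_univ_two, PSL2.ll]
  obtain ⟨a, ha, ha0⟩ : ∃ a : ZMod p, ![a, 0] ∈ A ∧ a ≠ 0 := by
    by_cases h1 : v 1 = 0
    · refine ⟨v 0, ?_, fun h0 => hv0 (funext fun i => by fin_cases i <;> assumption)⟩
      simpa using hU _ (hL v hv)
    · exact ⟨v 1, hU v hv, h1⟩
  have hb := hL _ ha
  simp only [Matrix.cons_val_zero] at hb
  refine eq_top_iff.2 fun w _ => ?_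
  have := A.add_mem (hmul (w 0 / a) _ ha) (hmul (w 1 / a) _ hb)
  convert this using 1
  ext i; fin_cases i <;> simp [ha0]

/-- Descent: a finite module embedded equivariantly in a power of `V` passes an irreducible
quotient on to an invariant subgroup of `V`. -/
theorem exists_sub_surjective {X V W : Type*} [AddCommGroup V] [AddCommGroup W] {ι : Type*}
    [DecidableEq ι] (σ : X → V →+ V) (τ : X → W →+ W) (π : X → SL(2, ZMod p))
    (hπ : Function.Surjective π) (μ : ι → W →+ V) (hμ : ∀ i x w, μ i (τ x w) = σ x (μ i w))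
    (s : Finset ι) :
    ∀ (U : AddSubgroup W) (hU : ∀ x, ∀ w ∈ U, τ x w ∈ U) (g : U →+ (Fin 2 → ZMod p)),
      Function.Surjective g →
      (∀ x (w : U), g ⟨τ x w, hU x w w.2⟩ = (π x : Matrix (Fin 2) (Fin 2) (ZMod p)) *ᵥ g w) →
      (∀ w ∈ U, (∀ i ∈ s, μ i w = 0) → w = 0) →
      ∃ (A : AddSubgroup V) (hA : ∀ x, ∀ v ∈ A, σ x v ∈ A) (f : A →+ (Fin 2 → ZMod p)),
        Function.Surjective f ∧
          ∀ x (v : A), f ⟨σ x v, hA x v v.2⟩ = (π x : Matrix (Fin 2) (Fin 2) (ZMod p)) *ᵥ f v := by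
  induction s using Finset.induction_on with
  | empty =>
    intro U hU g hg _ hinj
    obtain ⟨w, hw⟩ := hg ![1, 0]
    have : w = 0 := Subtype.ext (hinj w w.2 (by simp))
    rw [this, map_zero] at hw
    simpa using congrFun hw 0
  | insert i s hi ih =>
    intro U hU g hg hgx hinj
    set U₀ : AddSubgroup W := U ⊓ (μ i).ker with hU₀
    have hU₀i : ∀ x, ∀ w ∈ U₀, τ x w ∈ U₀ := fun x w hw =>
      ⟨hU x w hw.1, by show μ i (τ x w) = 0; rw [hμ, show μ i w = 0 from hw.2, map_zero]⟩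
    set g₀ : U₀ →+ (Fin 2 → ZMod p) := g.comp (AddSubgroup.inclusion inf_le_left) with hg₀
    have hg₀x : ∀ x (w : U₀),
        g₀ ⟨τ x w, hU₀i x w w.2⟩ = (π x : Matrix (Fin 2) (Fin 2) (ZMod p)) *ᵥ g₀ w :=
      fun x w => hgx x ⟨w, w.2.1⟩
    by_cases h0 : g₀.range = ⊥
    · set A := U.map (μ i) with hA
      have hker : ∀ w : U, μ i w = 0 → g w = 0 := fun w hw => by
        have : g₀ ⟨w, w.2, hw⟩ ∈ g₀.range := ⟨_, rfl⟩
        rw [h0] at this
        exact this
      have hAi : ∀ x, ∀ v ∈ A, σ x v ∈ A := by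
        rintro x _ ⟨w, hw, rfl⟩
        exact ⟨τ x w, hU x w hw, hμ i x w⟩
      have hex : ∀ v : A, ∃ w : U, μ i w = v := fun ⟨v, w, hw, e⟩ => ⟨⟨w, hw⟩, e⟩
      choose q hq using hex
      let f : A →+ (Fin 2 → ZMod p) := AddMonoidHom.mk' (fun v => g (q v)) fun v v' => by
        show g (q (v + v')) = g (q v) + g (q v')
        rw [← map_add, ← sub_eq_zero, ← map_sub]
        refine hker _ ?_
        simp [map_sub, map_add, hq]
      have hfq : ∀ (w : U) (v : A), μ i w = v → f v = g w := fun w v e => by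
        show g (q v) = g w
        rw [← sub_eq_zero, ← map_sub]
        refine hker _ ?_
        simp [map_sub, hq, e]
      refine ⟨A, hAi, f, fun y => ?_, fun x v => ?_⟩
      · obtain ⟨w, rfl⟩ := hg y
        exact ⟨⟨μ i w, w, w.2, rfl⟩, hfq w _ rfl⟩
      · rw [hfq ⟨τ x (q v), hU x _ (q v).2⟩ _ (by rw [hμ, hq]), hgx]
        rfl
    · have htop := natural_irreducible g₀.range (fun M v hv => by
        obtain ⟨x, rfl⟩ := hπ M
        obtain ⟨w, rfl⟩ := hv
        exact ⟨_, hg₀x x w⟩) h0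
      refine ih U₀ hU₀i g₀ (AddMonoidHom.range_eq_top.1 htop) hg₀x fun w hw hws => hinj w hw.1 ?_
      intro j hj
      rcases Finset.mem_insert.1 hj with rfl | hj
      · exact hw.2
      · exact hws j hj

/-- Descent from an extension field. -/
theorem exists_natural_hom {K : Type u} [Field K] [Algebra (ZMod p) K] {X : Type*} [Finite X]
    {ι : Type*} [Fintype ι] [DecidableEq ι] (M : X → Matrix ι ι (ZMod p)) (π : X → SL(2, ZMod p))
    (hπ : Function.Surjective π) (hMmul : ∀ x y, ∃ z, M z = M x * M y ∧ π z = π x * π y)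
    (φ : X → Matrix (Fin 2) (Fin 2) K) (gf : Matrix (Fin 2) (Fin 2) K) (hgf : gf.det ≠ 0)
    (hφ : ∀ x, φ x * gf = gf * ((π x : Matrix (Fin 2) (Fin 2) (ZMod p)).map (algebraMap (ZMod p) K)))
    (U : Submodule K (ι → K)) (hU : ∀ x, ∀ w ∈ U, (M x).map (algebraMap (ZMod p) K) *ᵥ w ∈ U)
    (f : U →ₗ[K] (Fin 2 → K)) (hf : Function.Surjective f)
    (hfx : ∀ x (w : U), f ⟨_, hU x w w.2⟩ = φ x *ᵥ f w) :
    ∃ (A : AddSubgroup (ι → ZMod p)) (hA : ∀ x, ∀ v ∈ A, M x *ᵥ v ∈ A)
      (g : A →+ (Fin 2 → ZMod p)), Function.Surjective g ∧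
        ∀ x (v : A), g ⟨_, hA x v v.2⟩ = (π x : Matrix (Fin 2) (Fin 2) (ZMod p)) *ᵥ g v := by
  classical
  let i := algebraMap (ZMod p) K
  let τ : X → (ι → K) →+ (ι → K) := fun x => ((M x).map i).mulVecLin.toAddMonoidHom
  let σ : X → (ι → ZMod p) →+ (ι → ZMod p) := fun x => (M x).mulVecLin.toAddMonoidHom
  have hτU : ∀ x, ∀ w ∈ U.toAddSubgroup, τ x w ∈ U.toAddSubgroup := hU
  choose u hu using fun j : Fin 2 => hf (gf *ᵥ Pi.single j 1)
  set S : Set (ι → K) := {w | ∃ j : Fin 2, w = u j ∨ ∃ x, w = τ x (u j)} with hS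
  set U₁ := AddSubgroup.closure S with hU₁
  have hSf : S.Finite := by
    have : S ⊆ (Set.range fun j => (u j : ι → K)) ∪ Set.range fun z : X × Fin 2 => τ z.1 (u z.2) := by
      rintro w ⟨j, rfl | ⟨x, rfl⟩⟩
      · exact Or.inl ⟨j, rfl⟩
      · exact Or.inr ⟨(x, j), rfl⟩
    exact ((Set.finite_range _).union (Set.finite_range _)).subset this
  have hU₁U : U₁ ≤ U.toAddSubgroup := by
    rw [hU₁, AddSubgroup.closure_le]
    rintro w ⟨j, rfl | ⟨x, rfl⟩⟩
    · exact (u j).2
    · exact hU x _ (u j).2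
  have hU₁i : ∀ x, ∀ w ∈ U₁, τ x w ∈ U₁ := by
    intro x w hw
    induction hw using AddSubgroup.closure_induction with
    | mem w hw =>
      obtain ⟨j, rfl | ⟨y, rfl⟩⟩ := hw
      · exact AddSubgroup.subset_closure ⟨j, Or.inr ⟨x, rfl⟩⟩
      · obtain ⟨z, hz, -⟩ := hMmul x y
        refine AddSubgroup.subset_closure ⟨j, Or.inr ⟨z, ?_⟩⟩
        show (M x).map i *ᵥ ((M y).map i *ᵥ _) = (M z).map i *ᵥ _
        rw [mulVec_mulVec, hz, Matrix.map_mul]
    | zero => rw [map_zero]; exact zero_mem _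
    | add _ _ _ _ h1 h2 => rw [map_add]; exact add_mem h1 h2
    | neg _ _ h => rw [map_neg]; exact neg_mem h
  have hfin : Set.Finite (U₁ : Set (ι → K)) := by
    have : Module.Finite (ZMod p) (Submodule.span (ZMod p) S) := Module.Finite.span_of_finite _ hSf
    have : Finite (Submodule.span (ZMod p) S) := Module.finite_of_finite (ZMod p)
    refine (Set.toFinite (Submodule.span (ZMod p) S : Set (ι → K))).subset ?_
    exact (AddSubgroup.closure_le (Submodule.span (ZMod p) S).toAddSubgroup).2 Submodule.subset_span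
  -- the values of `f` on `U₁` in the frame
  have hinv : Function.Injective (gf *ᵥ · : (Fin 2 → K) → _) :=
    Matrix.mulVec_injective_iff_isUnit.2 ((Matrix.isUnit_iff_isUnit_det gf).2 (isUnit_iff_ne_zero.2 hgf))
  let gv : (Fin 2 → ZMod p) →+ (Fin 2 → K) :=
    gf.mulVecLin.toAddMonoidHom.comp (AddMonoidHom.compLeft i.toAddMonoidHom (Fin 2))
  have hgv : Function.Injective gv := fun a b h => funext fun j => i.injective (congrFun (hinv h) j)
  have hgvx : ∀ x v, φ x *ᵥ gv v = gv ((π x : Matrix (Fin 2) (Fin 2) (ZMod p)) *ᵥ v) := by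
    intro x v
    show φ x *ᵥ (gf *ᵥ (i ∘ v)) = gf *ᵥ (i ∘ ((π x : Matrix (Fin 2) (Fin 2) (ZMod p)) *ᵥ v))
    rw [mulVec_mulVec, hφ, ← mulVec_mulVec]
    congr 1
    ext j
    exact (RingHom.map_mulVec i _ v j).symm
  let F : U₁ →+ (Fin 2 → K) := f.toAddMonoidHom.comp (AddSubgroup.inclusion hU₁U)
  have hval : ∀ w : U₁, F w ∈ gv.range := by
    rintro ⟨w, hw⟩
    induction hw using AddSubgroup.closure_induction with
    | mem w hw =>
      obtain ⟨j, rfl | ⟨x, rfl⟩⟩ := hw
      · exact ⟨Pi.single j 1, by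
          show gf *ᵥ (i ∘ Pi.single j 1) = f (u j)
          rw [hu]; congr 1; ext k; by_cases h : k = j <;> simp [h]⟩
      · refine ⟨(π x : Matrix (Fin 2) (Fin 2) (ZMod p)) *ᵥ Pi.single j 1, ?_⟩
        rw [← hgvx]
        show _ = f ⟨τ x (u j), _⟩
        rw [show (⟨τ x (u j), _⟩ : U) = ⟨_, hU x _ (u j).2⟩ from rfl, hfx, hu]
        congr 1
        show gf *ᵥ (i ∘ Pi.single j 1) = _
        congr 1; ext k; by_cases h : k = j <;> simp [h]
    | zero => exact ⟨0, by rw [map_zero]; exact (map_zero F).symm⟩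
    | add a b ha hb h1 h2 =>
      have := add_mem h1 h2
      rwa [← map_add] at this
    | neg a ha h =>
      have := neg_mem h
      rwa [← map_neg] at this
  choose g₁ hg₁ using hval
  let g : U₁ →+ (Fin 2 → ZMod p) := AddMonoidHom.mk' g₁ fun a b => hgv (by
    rw [map_add, hg₁, hg₁, hg₁, map_add])
  have hgF : ∀ w, gv (g w) = F w := hg₁
  have hgx : ∀ x (w : U₁),
      g ⟨τ x w, hU₁i x w w.2⟩ = (π x : Matrix (Fin 2) (Fin 2) (ZMod p)) *ᵥ g w := fun x w => hgv (by
    rw [hgF, ← hgvx, hgF]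
    exact hfx x ⟨w, hU₁U w.2⟩)
  have hgs : Function.Surjective g := by
    rw [← AddMonoidHom.range_eq_top]
    refine natural_irreducible g.range (fun m v hv => ?_) ?_
    · obtain ⟨x, rfl⟩ := hπ m
      obtain ⟨w, rfl⟩ := hv
      exact ⟨_, hgx x w⟩
    · intro hbot
      have hmem : (u 0 : ι → K) ∈ U₁ := AddSubgroup.subset_closure ⟨0, Or.inl rfl⟩
      have h0 : g ⟨_, hmem⟩ ∈ g.range := ⟨_, rfl⟩
      rw [hbot] at h0
      have e := hgF ⟨_, hmem⟩
      rw [show g ⟨_, hmem⟩ = 0 from h0, map_zero] at e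
      have : gf *ᵥ Pi.single (0 : Fin 2) 1 = gf *ᵥ 0 := by
        rw [mulVec_zero, e, ← hu]; rfl
      simpa using congrFun (hinv this) 0
  -- separating functionals
  have hsep : ∀ w : ι → K, w ≠ 0 → ∃ l : K →ₗ[ZMod p] ZMod p, ∃ j, l (w j) ≠ 0 := by
    intro w hw
    obtain ⟨j, hj⟩ := Function.ne_iff.1 hw
    obtain ⟨l, hl⟩ := Module.Projective.exists_dual_ne_zero (ZMod p) hj
    exact ⟨l, j, hl⟩
  choose L hL using hsep
  let s : Finset (K →ₗ[ZMod p] ZMod p) :=
    hfin.toFinset.attach.image fun w => if h : w.1 = 0 then 0 else L w.1 h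
  let μ : (K →ₗ[ZMod p] ZMod p) → (ι → K) →+ (ι → ZMod p) :=
    fun l => AddMonoidHom.compLeft l.toAddMonoidHom ι
  have hμ : ∀ l x w, μ l (τ x w) = σ x (μ l w) := by
    intro l x w
    ext j
    show l (((M x).map i *ᵥ w) j) = (M x *ᵥ (l ∘ w)) j
    simp only [Matrix.mulVec, dotProduct, Matrix.map_apply, map_sum, Function.comp_apply, i,
      ← Algebra.smul_def, map_smul, smul_eq_mul]
  exact exists_sub_surjective σ τ π hπ μ hμ s U₁ hU₁i g hgs hgx fun w hw h => by
    by_contra h0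
    have hs : L w h0 ∈ s := Finset.mem_image.2
      ⟨⟨w, hfin.mem_toFinset.2 hw⟩, Finset.mem_attach _ _, by rw [dif_neg h0]⟩
    obtain ⟨j, hj⟩ := hL w h0
    exact hj (congrFun (h _ hs) j)

end Descent

section Conj

open Cfsg.Agent.Quadratic Subgroup

variable {G : Type u} [Group G] [Finite G] {p : ℕ} [hp : Fact p.Prime]

theorem involves_qd_of_pair (h2 : p ≠ 2) (V H : Subgroup G) (hV : Cfsg.IsElementaryAbelian p V)
    (hHV : H ≤ normalizer (V : Set G)) {a b : G} (hab : H = closure {a, b})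
    (ha : ⁅⁅V, zpowers a⁆, zpowers a⁆ = ⊥) (hb : ⁅⁅V, zpowers b⁆, zpowers b⁆ = ⊥)
    (hnp : ∃ h ∈ H, ∀ n : ℕ, h ^ p ^ n ∉ centralizer (V : Set G)) :
    Cfsg.Involves ↥(Cfsg.qd p) G := by
  classical
  have haH : a ∈ H := hab ▸ subset_closure (by simp)
  have hbH : b ∈ H := hab ▸ subset_closure (by simp)
  let _ : CommGroup V := { (inferInstance : Group V) with mul_comm := hV.1.is_comm.comm }
  have : Module (ZMod p) (Additive V) := AddCommGroup.zmodModule fun x => by
    show Additive.ofMul ((Additive.toMul x) ^ p) = 0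
    exact congrArg Additive.ofMul (Subtype.ext (hV.2 _ (Additive.toMul x).2))
  let ρ₀ : H →* Module.End (ZMod p) (Additive V) :=
    { toFun := fun h => (conjAdd V (hHV h.2)).toZModLinearMap p
      map_one' := by
        refine LinearMap.ext fun x => Additive.toMul.injective (Subtype.ext ?_)
        rw [Module.End.one_apply, AddMonoidHom.coe_toZModLinearMap]
        simp [conjAdd]
      map_mul' := fun g h => by
        refine LinearMap.ext fun x => Additive.toMul.injective (Subtype.ext ?_)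
        rw [Module.End.mul_apply, AddMonoidHom.coe_toZModLinearMap, AddMonoidHom.coe_toZModLinearMap,
          AddMonoidHom.coe_toZModLinearMap]
        simp only [conjAdd, AddMonoidHom.coe_mk, ZeroHom.coe_mk, toMul_ofMul, Subgroup.coe_mul]
        group }
  have hval : ∀ (h : H) (x : Additive V),
      ((Additive.toMul (ρ₀ h x) : V) : G) = h * (Additive.toMul x : V) * (h : G)⁻¹ := fun h x => by
    simp [ρ₀, conjAdd]
  have hquad : ∀ (c : H), ⁅⁅V, zpowers (c : G)⁆, zpowers (c : G)⁆ = ⊥ →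
      (ρ₀ c - 1) * (ρ₀ c - 1) = 0 := by
    intro c hc
    refine LinearMap.ext fun x => ?_
    simp only [Module.End.mul_apply, LinearMap.sub_apply, Module.End.one_apply,
      LinearMap.zero_apply]
    rw [sub_eq_zero]
    refine Additive.toMul.injective (Subtype.ext ?_)
    rw [hval]
    have hm : ((Additive.toMul (ρ₀ c x - x) : V) : G) ∈ ⁅V, zpowers (c : G)⁆ := by
      rw [sub_eq_add_neg, toMul_add, toMul_neg, Subgroup.coe_mul, Subgroup.coe_inv, hval,
        ← commutatorElement_def, commutator_comm]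
      exact commutator_mem_commutator (mem_zpowers (c : G)) (Additive.toMul x).2
    rw [commutator_eq_bot_iff_le_centralizer.mp hc hm c (mem_zpowers _)]
    group
  let K := AlgebraicClosure (ZMod p)
  let i := algebraMap (ZMod p) K
  let ι := Module.Free.ChooseBasisIndex (ZMod p) (Additive V)
  let B := Module.Free.chooseBasis (ZMod p) (Additive V)
  let e : Module.End (ZMod p) (Additive V) →+* Module.End K (ι → K) :=
    ((Matrix.toLinAlgEquiv' (R := K)).toRingEquiv.toRingHom.comp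
      i.mapMatrix).comp (LinearMap.toMatrixAlgEquiv B).toRingEquiv.toRingHom
  have hinj : Function.Injective e :=
    (Matrix.toLinAlgEquiv' (R := K)).injective.comp
      ((Matrix.map_injective i.injective).comp (LinearMap.toMatrixAlgEquiv B).injective)
  let ρ : H →* Module.End K (ι → K) := e.toMonoidHom.comp ρ₀
  have hq : ∀ c : H, ⁅⁅V, zpowers (c : G)⁆, zpowers (c : G)⁆ = ⊥ →
      (ρ c - 1) * (ρ c - 1) = 0 := by
    intro c hc
    show (e (ρ₀ c) - 1) * (e (ρ₀ c) - 1) = 0
    rw [← map_one e, ← map_sub, ← map_mul, hquad c hc, map_zero]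
  have hgen : closure ({⟨a, haH⟩, ⟨b, hbH⟩} : Set H) = ⊤ := by
    apply Subgroup.map_injective H.subtype_injective
    rw [MonoidHom.map_closure, Set.image_pair, ← MonoidHom.range_eq_map, range_subtype]
    exact hab.symm
  have hnp' : ¬ PImage p ρ := by
    intro hP
    obtain ⟨h, hh, hn⟩ := hnp
    obtain ⟨k, hk⟩ := hP ⟨h, hh⟩
    refine hn k fun v hv => ?_
    have h0 : ρ₀ (⟨h, hh⟩ ^ p ^ k) = 1 := hinj (hk.trans (map_one e).symm)
    have h1 := LinearMap.congr_fun h0 (Additive.ofMul (⟨v, hv⟩ : V))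
    have h2 := congrArg (fun z => ((Additive.toMul z : V) : G)) h1
    simp only [hval] at h2
    rw [mul_inv_eq_iff_eq_mul] at h2
    simpa using h2.symm
  obtain ⟨φ, hφ, hφa, hφb, U, f, hf, hU, hfx⟩ :=
    exists_intertwiner hgen ρ (N := Nat.card H) Nat.card_pos pow_card_eq_one'
      (IsAlgClosed.splits _) (hq _ ha) (hq _ hb) hnp'
  have : Finite φ.range := Finite.of_surjective _ φ.rangeRestrict_surjective
  obtain ⟨ψ, hψ, hle⟩ := exists_SL2_of_pgen (K := K) h2 φ.range (fun x hx => by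
      rw [MonoidHom.range_eq_map, ← hgen, MonoidHom.map_closure] at hx
      refine closure_mono ?_ hx
      rintro _ ⟨z, (rfl | rfl), rfl⟩
      exacts [⟨⟨_, rfl⟩, hφa⟩, ⟨⟨_, rfl⟩, hφb⟩])
    fun h => hφ ((isPGroup_range_iff φ).mp h)
  obtain ⟨gf, hgf, hfr⟩ := exists_frame h2 ψ hψ
  -- the preimage of the copy of `SL(2, p)`
  let X₀ : Subgroup H := ψ.range.comap φ
  let π₀ : X₀ →* SL(2, ZMod p) := (MonoidHom.ofInjective hψ).symm.toMonoidHom.comp
    ((φ.comp X₀.subtype).codRestrict ψ.range fun x => x.2)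
  have hπ₀ : ∀ x : X₀, ψ (π₀ x) = φ x := fun x =>
    congrArg Subtype.val ((MonoidHom.ofInjective hψ).apply_symm_apply ⟨φ x, x.2⟩)
  have hπs : Function.Surjective π₀ := fun s => by
    obtain ⟨h, hh⟩ := hle ⟨s, rfl⟩
    exact ⟨⟨h, ⟨s, hh.symm⟩⟩, hψ (by rw [hπ₀]; exact hh)⟩
  have hcast : (ZMod.castHom (dvd_refl p) K : ZMod p →+* K) = i := Subsingleton.elim _ _
  let Mx : X₀ → Matrix ι ι (ZMod p) := fun x => LinearMap.toMatrixAlgEquiv B (ρ₀ x)
  have hρM : ∀ (x : X₀) (w : ι → K), ρ x w = (Mx x).map i *ᵥ w := fun x w =>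
    Matrix.toLinAlgEquiv'_apply _ _
  obtain ⟨A₀, hA₀, g₀, hg₀, hg₀x⟩ := exists_natural_hom (K := K) Mx π₀ hπs
    (fun x y => ⟨x * y, by simp [Mx, map_mul], map_mul π₀ x y⟩)
    (fun x => (φ x : Matrix (Fin 2) (Fin 2) K)) gf hgf
    (fun x => by rw [← hπ₀, hfr, hcast]) U (fun x w hw => hρM x w ▸ hU x w hw) f hf
    (fun x w => by
      rw [show (⟨(Mx x).map i *ᵥ (w : ι → K), _⟩ : U) = ⟨ρ x w, hU x w w.2⟩ from
        Subtype.ext (hρM x w).symm]
      exact hfx x w)
  -- back to the group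
  let E : Additive V ≃ₗ[ZMod p] (ι → ZMod p) := B.equivFun
  have hE : ∀ (x : X₀) (v : Additive V), E (ρ₀ x v) = Mx x *ᵥ E v := fun x v =>
    (LinearMap.toMatrix_mulVec_repr B B (ρ₀ x) v).symm
  let A : Subgroup G := (AddSubgroup.toSubgroup' (A₀.comap E.toAddEquiv.toAddMonoidHom)).map V.subtype
  have hAV : A ≤ V := map_subtype_le _
  have hAmem : ∀ v : V, (v : G) ∈ A ↔ E (Additive.ofMul v) ∈ A₀ := fun v =>
    ⟨fun ⟨w, hw, e⟩ => by rw [show v = w from Subtype.ext e.symm]; exact hw, fun h => ⟨v, h, rfl⟩⟩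
  let toA : A → A₀ := fun a => ⟨E (Additive.ofMul ⟨a, hAV a.2⟩), (hAmem _).1 a.2⟩
  let gA : A →* Multiplicative (Fin 2 → ZMod p) := MonoidHom.mk'
    (fun a => Multiplicative.ofAdd (g₀ (toA a))) fun a b => by
      rw [show toA (a * b) = toA a + toA b from Subtype.ext (map_add E (Additive.ofMul
        (⟨a, hAV a.2⟩ : V)) (Additive.ofMul ⟨b, hAV b.2⟩)), map_add, ofAdd_add]
  let X : Subgroup G := X₀.map H.subtype
  let eX : X₀ ≃* X := X₀.equivMapOfInjective H.subtype H.subtype_injective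
  have hconj : ∀ (x : X₀) (v : G) (hv : v ∈ A), ((x : H) : G) * v * ((x : H) : G)⁻¹ ∈ A := by
    intro x v hv
    have hv' := (hAmem ⟨v, hAV hv⟩).1 hv
    have := hA₀ x _ hv'
    rw [← hE] at this
    have h' := (hAmem (Additive.toMul (ρ₀ x (Additive.ofMul ⟨v, hAV hv⟩)))).2 this
    rwa [hval] at h'
  have hXA : X ≤ normalizer (A : Set G) := by
    rintro _ ⟨x, hx, rfl⟩
    rw [mem_normalizer_iff]
    refine fun v => ⟨hconj ⟨x, hx⟩ v, fun h => ?_⟩
    have := hconj (⟨x, hx⟩⁻¹ : X₀) _ h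
    simpa [mul_assoc] using this
  refine involves_qd_of_natural h2 ((show IsPGroup p V from fun v => ⟨1, Subtype.ext (by simpa using hV.2 v v.2)⟩).to_le hAV) hXA
    (π₀.comp eX.symm.toMonoidHom) (hπs.comp eX.symm.surjective) gA ?_ ?_
  · intro y
    obtain ⟨⟨w, hw⟩, hy⟩ := hg₀ y.toAdd
    obtain ⟨v, rfl⟩ := E.surjective w
    exact ⟨⟨(Additive.toMul v : V), (hAmem _).2 hw⟩, congrArg Multiplicative.ofAdd hy⟩
  · intro x a
    obtain ⟨x, rfl⟩ := eX.surjective x
    show Multiplicative.ofAdd _ = Multiplicative.ofAdd _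
    rw [MonoidHom.comp_apply, MulEquiv.coe_toMonoidHom, MulEquiv.symm_apply_apply]
    refine congrArg Multiplicative.ofAdd (Eq.trans (congrArg g₀ ?_) (hg₀x x (toA a)))
    refine Subtype.ext ((congrArg E ?_).trans (hE x (Additive.ofMul ⟨a, hAV a.2⟩)))
    apply Additive.toMul.injective
    apply Subtype.ext
    rw [hval]
    rfl

end Conj

end Cfsg.Agent.Qd
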