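import Cfsg.Prelude.Def_LocalEven
import Cfsg.Agent.Lib.Qd.Pair
import Cfsg.Agent.Lib.OddOrder.Stability

/-!
# Groups without a section `Qd(p)` are `p`-stable (`p` odd)

* `isPStableOn_of_not_involves_qd`, `stableOn_of_not_involves_qd`,
* `isNormalizerPStable_of_not_involves_qd`.
-/

set_option autoImplicit false
set_option linter.style.haveILetI false

namespace Cfsg.Agent.Qd

open Subgroup
open scoped commutatorElement

universe u

variable {G : Type u} [Group G] [Finite G] {p : ℕ} [Fact p.Prime]

theorem isPStableOn_of_not_involves_qd (h2 : p ≠ 2) (hqd : ¬ Cfsg.Involves ↥(Cfsg.qd p) G)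
    (B : Subgroup G) [B.Normal] (hB : IsPGroup p B) : Cfsg.IsPStableOn p B := by
  refine OddOrder.isPStableOn_of_elementary (fun N _ V _ hV =>
    Quadratic.isPStableOn_of_no_pair V fun a b ha hb hnp => hqd ?_) B hB
  exact ConjFun.involves_trans
    (involves_qd_of_pair h2 V _ hV (by rw [normalizer_eq_top]; exact le_top) rfl ha hb hnp)
    (ConjFun.involves_quotient N)

theorem stableOn_of_not_involves_qd (h2 : p ≠ 2) (hqd : ¬ Cfsg.Involves ↥(Cfsg.qd p) G)
    (S : Subgroup G) : Replacement.StableOn p S :=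
  Replacement.stableOn_of_isPStableOn S fun V _ hV => isPStableOn_of_not_involves_qd h2 hqd V hV

theorem isNormalizerPStable_of_not_involves_qd (h2 : p ≠ 2)
    (hqd : ¬ Cfsg.Involves ↥(Cfsg.qd p) G) : Cfsg.IsNormalizerPStable p G := by
  intro P hP g hg hq
  set N := normalizer (P : Set G)
  haveI : (P.subgroupOf N).Normal := normal_in_normalizer
  have hPN : P ≤ N := le_normalizer
  have h := isPStableOn_of_not_involves_qd h2
    (fun h => hqd (ConjFun.involves_trans h (ConjFun.involves_subgroup N))) (P.subgroupOf N)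
    (hP.comap_subtype) ⟨g, hg⟩ (by
      apply Subgroup.map_injective N.subtype_injective
      rw [map_commutator, map_commutator, MonoidHom.map_zpowers, map_subgroupOf_eq_of_le hPN,
        Subgroup.map_bot]
      exact hq)
  set C₁ := centralizer ((P.subgroupOf N : Subgroup N) : Set N)
  set C₂ := (centralizer (P : Set G)).subgroupOf N
  have hle : C₁ ≤ C₂.comap (MonoidHom.id N) := fun x hx => by
    rw [mem_comap, MonoidHom.id_apply, mem_subgroupOf, mem_centralizer_iff]
    exact fun u hu => congrArg Subtype.val (mem_centralizer_iff.1 hx ⟨u, hPN hu⟩ hu)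
  exact PCore.map_pCore_le (QuotientGroup.map C₁ C₂ (MonoidHom.id N) hle)
    (fun y => by
      obtain ⟨x, rfl⟩ := QuotientGroup.mk'_surjective C₂ y
      exact ⟨QuotientGroup.mk' C₁ x, rfl⟩) ⟨_, h, rfl⟩

end Cfsg.Agent.Qd
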