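import Mathlib
import Cfsg.Prelude.Def_PLocal
import Cfsg.Prelude.Def_LocalEven

/-!
Groups with trivially intersecting Sylow p-subgroups do not involve Qd(p); a criterion for this
through fixed vectors of p-elements in a linear representation.
-/
set_option autoImplicit false

namespace Cfsg.Agent.Qd

open Matrix

variable {G : Type*} [Group G] {p : ℕ} [Fact p.Prime]

/-- If `Qd(p)` is involved, some subgroup maps onto it. -/
theorem exists_surjective_of_involves (h : Cfsg.Involves ↥(Cfsg.qd p) G) :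
    ∃ (K : Subgroup G) (φ : K →* ↥(Cfsg.qd p)), Function.Surjective φ := by
  obtain ⟨K, R, hR, ⟨e⟩⟩ := h
  exact ⟨K, e.toMonoidHom.comp (QuotientGroup.mk' _), e.surjective.comp Quotient.mk''_surjective⟩

/-- `Qd(p)` is not involved in a quotient unless it is in the group. -/
theorem involves_of_involves_quotient (N : Subgroup G) [N.Normal] (h : Cfsg.Involves ↥(Cfsg.qd p) (G ⧸ N)) :
    Cfsg.Involves ↥(Cfsg.qd p) G := by
  obtain ⟨K, φ, hφ⟩ := exists_surjective_of_involves h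
  let f : K.comap (QuotientGroup.mk' N) →* K :=
    ((QuotientGroup.mk' N).comp (K.comap (QuotientGroup.mk' N)).subtype).codRestrict K (fun x => x.2)
  have hf : Function.Surjective f := by
    rintro ⟨y, hy⟩
    obtain ⟨x, rfl⟩ := QuotientGroup.mk'_surjective N y
    exact ⟨⟨x, hy⟩, rfl⟩
  have hψ : Function.Surjective (φ.comp f) := hφ.comp hf
  have heq : ((φ.comp f).ker.map (Subgroup.subtype _)).subgroupOf (K.comap (QuotientGroup.mk' N)) = (φ.comp f).ker :=
    Subgroup.comap_map_eq_self_of_injective (Subgroup.subtype_injective _) _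
  have hn : (((φ.comp f).ker.map (Subgroup.subtype _)).subgroupOf (K.comap (QuotientGroup.mk' N))).Normal :=
    heq.symm ▸ MonoidHom.normal_ker _
  exact ⟨_, _, hn, ⟨(QuotientGroup.quotientMulEquivOfEq heq).trans
    (QuotientGroup.quotientKerEquivOfSurjective _ hψ)⟩⟩

/-- The entries of the last row of an element of `Qd(p)`. -/
theorem qd_shape (M : Matrix.SpecialLinearGroup (Fin 3) (ZMod p)) (hM : M ∈ Cfsg.qd p) :
    (↑M : Matrix (Fin 3) (Fin 3) (ZMod p)) 2 0 = 0 ∧ (↑M : Matrix (Fin 3) (Fin 3) (ZMod p)) 2 1 = 0 ∧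
      (↑M : Matrix (Fin 3) (Fin 3) (ZMod p)) 2 2 = 1 := by
  induction hM using Subgroup.closure_induction with
  | mem x hx => exact hx
  | one => simp
  | mul x y _ _ hx hy =>
    simp [Matrix.SpecialLinearGroup.coe_mul, Matrix.mul_apply, Fin.sum_univ_three, hx.1, hx.2.1, hx.2.2,
      hy.1, hy.2.1, hy.2.2]
  | inv x _ hx =>
    have h : (↑x : Matrix (Fin 3) (Fin 3) (ZMod p)) * (↑(x⁻¹) : Matrix (Fin 3) (Fin 3) (ZMod p)) = 1 := by
      exact (Matrix.SpecialLinearGroup.coe_mul x x⁻¹).symm.trans (by rw [mul_inv_cancel]; rfl)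
    have e : ∀ j, (↑(x⁻¹) : Matrix (Fin 3) (Fin 3) (ZMod p)) 2 j = (1 : Matrix (Fin 3) (Fin 3) (ZMod p)) 2 j := by
      intro j
      rw [← congrFun (congrFun h 2) j]
      simp [Matrix.mul_apply, Fin.sum_univ_three, hx.1, hx.2.1, hx.2.2, -Matrix.SpecialLinearGroup.coe_inv]
    refine ⟨?_, ?_, ?_⟩ <;> rw [e] <;> simp

/-- The linear part of an element of `Qd(p)`. -/
def qdLinear : ↥(Cfsg.qd p) →* Matrix (Fin 2) (Fin 2) (ZMod p) where
  toFun M := (↑(M : Matrix.SpecialLinearGroup (Fin 3) (ZMod p)) : Matrix (Fin 3) (Fin 3) (ZMod p)).submatrix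
    Fin.castSucc Fin.castSucc
  map_one' := by ext i j; fin_cases i <;> fin_cases j <;> simp [Matrix.submatrix]
  map_mul' := by
    rintro ⟨x, hx⟩ ⟨y, hy⟩
    obtain ⟨h0, h1, -⟩ := qd_shape y hy
    ext i j
    fin_cases j <;>
      simp [Matrix.SpecialLinearGroup.coe_mul, Matrix.mul_apply, Fin.sum_univ_three, Fin.sum_univ_two, h0, h1]

theorem sl_pow_prime_eq_one {n : ℕ} [NeZero n] (M : Matrix.SpecialLinearGroup (Fin n) (ZMod p))
    (h : ((↑M : Matrix (Fin n) (Fin n) (ZMod p)) - 1) ^ 2 = 0) : M ^ p ^ 1 = 1 := by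
  apply Matrix.SpecialLinearGroup.ext
  intro i j
  have h2 : ((↑M : Matrix (Fin n) (Fin n) (ZMod p)) - 1) ^ p = 0 :=
    pow_eq_zero_of_le (Fact.out : p.Prime).two_le h
  rw [sub_pow_char_of_commute (p := p) (Commute.one_right _), one_pow, sub_eq_zero] at h2
  rw [pow_one, Matrix.SpecialLinearGroup.coe_pow, h2, Matrix.SpecialLinearGroup.coe_one]

/-- A group with trivially intersecting Sylow p-subgroups does not involve `Qd(p)`. -/
theorem not_involves_qd_of_sylow_disjoint [Finite G] (hp : p ≠ 2)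
    (hTI : ∀ P Q : Sylow p G, ∀ g : G, g ≠ 1 → g ∈ (P : Subgroup G) → g ∈ (Q : Subgroup G) → P = Q) :
    ¬ Cfsg.Involves ↥(Cfsg.qd p) G := by
  intro hinv
  obtain ⟨K, φ, hφ⟩ := exists_surjective_of_involves hinv
  have hq : ∀ (M : Matrix.SpecialLinearGroup (Fin 3) (ZMod p)),
      (↑M : Matrix (Fin 3) (Fin 3) (ZMod p)) 2 0 = 0 → (↑M : Matrix (Fin 3) (Fin 3) (ZMod p)) 2 1 = 0 →
      (↑M : Matrix (Fin 3) (Fin 3) (ZMod p)) 2 2 = 1 → M ∈ Cfsg.qd p :=
    fun M h0 h1 h2 => Subgroup.subset_closure ⟨h0, h1, h2⟩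
  set T : Subgroup ↥(Cfsg.qd p) := qdLinear.ker with hTdef
  have hT : IsPGroup p T := by
    rintro ⟨⟨M, hM⟩, hker⟩
    refine ⟨1, Subtype.ext (Subtype.ext ?_)⟩
    obtain ⟨h20, h21, h22⟩ := qd_shape M hM
    have hk : qdLinear (⟨M, hM⟩ : ↥(Cfsg.qd p)) = 1 := hker
    have h00 := congrFun (congrFun hk 0) 0
    have h01 := congrFun (congrFun hk 0) 1
    have h10 := congrFun (congrFun hk 1) 0
    have h11 := congrFun (congrFun hk 1) 1
    simp [qdLinear] at h00 h01 h10 h11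
    refine sl_pow_prime_eq_one M ?_
    ext i j
    fin_cases i <;> fin_cases j <;>
      simp [pow_two, Matrix.mul_apply, Fin.sum_univ_three, h00, h01, h10, h11, h20, h21, h22]
  have hTne : T ≠ ⊥ := by
    let M : Matrix.SpecialLinearGroup (Fin 3) (ZMod p) := ⟨!![1, 0, 1; 0, 1, 0; 0, 0, 1], by simp [det_fin_three]⟩
    intro h
    have : (⟨M, hq M (by simp [M]) (by simp [M]) (by simp [M])⟩ : ↥(Cfsg.qd p)) ∈ T := by
      show qdLinear _ = 1
      ext i j
      fin_cases i <;> fin_cases j <;> simp [qdLinear, M]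
    rw [h, Subgroup.mem_bot] at this
    have h2 := congrArg (fun x : ↥(Cfsg.qd p) =>
      (↑(x : Matrix.SpecialLinearGroup (Fin 3) (ZMod p)) : Matrix (Fin 3) (Fin 3) (ZMod p)) 0 2) this
    simp [M] at h2
  -- lift
  let L : Subgroup K := T.comap φ
  let Q : Sylow p L := default
  have hQT : ((Q : Subgroup L).map L.subtype).map φ = T := by
    let ψ : L →* T := (φ.comp L.subtype).codRestrict T (fun x => x.2)
    have hψ : Function.Surjective ψ := by
      rintro ⟨y, hy⟩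
      obtain ⟨x, rfl⟩ := hφ y
      exact ⟨⟨x, hy⟩, rfl⟩
    have h1 : ((Q.mapSurjective hψ : Sylow p T) : Subgroup T) = ⊤ :=
      ((Q.mapSurjective hψ).is_maximal' (IsPGroup.of_equiv hT Subgroup.topEquiv.symm) le_top).symm
    have h2 : ((Q : Subgroup L).map ψ).map T.subtype = T := by
      rw [show (Q : Subgroup L).map ψ = ⊤ from h1, ← MonoidHom.range_eq_map, Subgroup.range_subtype]
    rw [Subgroup.map_map] at h2 ⊢
    exact h2
  have hQne : ∃ g : K, g ≠ 1 ∧ g ∈ (Q : Subgroup L).map L.subtype := by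
    by_contra h
    push Not at h
    apply hTne
    rw [← hQT]
    refine (Subgroup.map_eq_bot_iff _).2 fun g hg => ?_
    by_cases hg1 : g = 1
    · rw [hg1]; exact one_mem _
    · exact absurd hg (h g hg1)
  obtain ⟨g, hg1, hgQ⟩ := hQne
  set N : Subgroup K := Subgroup.normalizer (((Q : Subgroup L).map L.subtype : Subgroup K) : Set K) with hN
  have hLn : L.Normal := (MonoidHom.normal_ker qdLinear).comap φ
  have hNtop : N.map φ = ⊤ := by
    have h1 : N ⊔ L = ⊤ := Sylow.normalizer_sup_eq_top Q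
    have h2 : N.map φ ⊔ T = ⊤ := by
      rw [← Subgroup.map_comap_eq_self_of_surjective hφ T, ← Subgroup.map_sup]
      rw [show T.comap φ = L from rfl, h1, Subgroup.map_top_of_surjective _ hφ]
    rw [← hQT] at h2
    rwa [sup_eq_left.2 (Subgroup.map_mono Subgroup.le_normalizer)] at h2
  obtain ⟨P, hP⟩ := ((Q.isPGroup'.map L.subtype).map K.subtype).exists_le_sylow
  -- `P` is normalised by `N`
  have hPn : ∀ n ∈ N, (n : G) ∈ Subgroup.normalizer ((P : Subgroup G) : Set G) := by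
    intro n hn
    refine Sylow.smul_eq_iff_mem_normalizer.1 ?_
    have hgn : n⁻¹ * g * n ∈ (Q : Subgroup L).map L.subtype := by
      have := (Subgroup.mem_normalizer_iff.1 (inv_mem hn) g).1 hgQ
      simpa using this
    refine hTI ((n : G) • P) P (g : G) ?_ ?_ (hP ⟨g, hgQ, rfl⟩)
    · exact fun h => hg1 (Subtype.ext h)
    · refine ⟨_, hP ⟨_, hgn, rfl⟩, ?_⟩
      show (n : G) * ((n : G)⁻¹ * (g : G) * (n : G)) * (n : G)⁻¹ = (g : G)
      group
  have hPN : ∀ x : G, x ∈ Subgroup.normalizer ((P : Subgroup G) : Set G) → (∃ k, x ^ p ^ k = 1) →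
      x ∈ (P : Subgroup G) := by
    rintro x hx ⟨k, hk⟩
    have hz : IsPGroup p (Subgroup.zpowers x) := by
      rintro ⟨y, hy⟩
      obtain ⟨i, rfl⟩ := hy
      refine ⟨k, Subtype.ext ?_⟩
      show (x ^ i) ^ p ^ k = 1
      rw [← zpow_natCast, ← _root_.zpow_mul, mul_comm, _root_.zpow_mul, zpow_natCast, hk, _root_.one_zpow]
    have h1 : IsPGroup p ((P : Subgroup G) ⊔ Subgroup.zpowers x : Subgroup G) :=
      IsPGroup.to_sup_of_normal_left' P.isPGroup' hz (Subgroup.zpowers_le.2 hx)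
    rw [← P.is_maximal' h1 le_sup_left]
    exact Subgroup.mem_sup_right (Subgroup.mem_zpowers x)
  have hSimg : ∀ y : ↥(Cfsg.qd p), (∃ k, y ^ p ^ k = 1) →
      ∃ x : K, (x : G) ∈ (P : Subgroup G) ∧ φ x = y := by
    rintro y ⟨k, hk⟩
    obtain ⟨x, hx, rfl⟩ : y ∈ N.map φ := hNtop ▸ Subgroup.mem_top y
    obtain ⟨a, b, hb, hab⟩ := Nat.exists_eq_pow_mul_and_not_dvd (orderOf_pos x).ne' p
      (Fact.out : p.Prime).ne_one
    have hp1 : 1 < p := (Fact.out : p.Prime).one_lt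
    obtain ⟨c, -, hc⟩ := Nat.exists_mul_mod_eq_one_of_coprime (n := b) (k := p ^ (k + 1))
      (Nat.Coprime.pow_right _ ((Nat.Prime.coprime_iff_not_dvd Fact.out).2 hb).symm)
      (Nat.one_lt_pow (by omega) hp1)
    refine ⟨x ^ (b * c), hPN _ (by rw [Subgroup.coe_pow]; exact pow_mem (hPn x hx) _) ⟨a, ?_⟩, ?_⟩
    · rw [← Subgroup.coe_pow, ← pow_mul, show b * c * p ^ a = orderOf x * c by rw [hab]; ring, pow_mul,
        pow_orderOf_eq_one, one_pow, Subgroup.coe_one]
    · rw [map_pow, ← Nat.mod_add_div (b * c) (p ^ (k + 1)), hc, pow_add, pow_one, pow_succ p k, mul_assoc,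
        pow_mul, hk, one_pow, mul_one]
  -- two unipotent elements generating a non-p-group
  let u : Matrix.SpecialLinearGroup (Fin 3) (ZMod p) := ⟨!![1, 1, 0; 0, 1, 0; 0, 0, 1], by simp [det_fin_three]⟩
  let l : Matrix.SpecialLinearGroup (Fin 3) (ZMod p) := ⟨!![1, 0, 0; 1, 1, 0; 0, 0, 1], by simp [det_fin_three]⟩
  let uq : ↥(Cfsg.qd p) := ⟨u, hq u (by simp [u]) (by simp [u]) (by simp [u])⟩
  let lq : ↥(Cfsg.qd p) := ⟨l, hq l (by simp [l]) (by simp [l]) (by simp [l])⟩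
  obtain ⟨xu, hxu, hu⟩ := hSimg uq ⟨1, Subtype.ext (sl_pow_prime_eq_one u (by
    ext i j; fin_cases i <;> fin_cases j <;> simp [u, pow_two, Matrix.mul_apply, Fin.sum_univ_three]))⟩
  obtain ⟨xl, hxl, hl⟩ := hSimg lq ⟨1, Subtype.ext (sl_pow_prime_eq_one l (by
    ext i j; fin_cases i <;> fin_cases j <;> simp [l, pow_two, Matrix.mul_apply, Fin.sum_univ_three]))⟩
  obtain ⟨k, hk⟩ := P.isPGroup' ⟨(xu * xl : K), mul_mem hxu hxl⟩
  have hk' : (u * l) ^ p ^ k = 1 := by
    have h1 : (xu * xl) ^ p ^ k = 1 := Subtype.ext (by simpa using congrArg Subtype.val hk)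
    have h2 := congrArg φ h1
    rw [map_pow, map_mul, hu, hl, map_one] at h2
    exact congrArg Subtype.val h2
  have h0 : ((↑(u * l) : Matrix (Fin 3) (Fin 3) (ZMod p)) - 1) ^ p ^ k = 0 := by
    rw [sub_pow_char_pow_of_commute (p := p) (n := k) (Commute.one_right _), one_pow, sub_eq_zero,
      ← Matrix.SpecialLinearGroup.coe_pow, hk', Matrix.SpecialLinearGroup.coe_one]
  have htr := Matrix.isNilpotent_trace_of_isNilpotent (show IsNilpotent _ from ⟨_, h0⟩)
  rw [isNilpotent_iff_eq_zero, Matrix.SpecialLinearGroup.coe_mul u l] at htr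
  have e : (!![1, 1, 0; 0, 1, 0; 0, 0, 1] : Matrix (Fin 3) (Fin 3) (ZMod p)) * !![1, 0, 0; 1, 1, 0; 0, 0, 1] =
      !![2, 1, 0; 1, 1, 0; 0, 0, 1] := by
    ext i j; fin_cases i <;> fin_cases j <;> simp [Matrix.mul_apply, Fin.sum_univ_three] <;> norm_num
  change Matrix.trace ((!![1, 1, 0; 0, 1, 0; 0, 0, 1] : Matrix (Fin 3) (Fin 3) (ZMod p)) * !![1, 0, 0; 1, 1, 0; 0, 0, 1] - 1) = 0 at htr
  rw [e] at htr
  simp [Matrix.trace, Fin.sum_univ_three] at htr
  norm_num at htr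

/-- Criterion: Sylow p-subgroups intersect trivially if p-elements have essentially unique good
fixed vectors, with p-group stabilisers. -/
theorem sylow_disjoint_of_fixed_vectors [Finite G] {K : Type*} [Field K] [CharP K p] {ι : Type*}
    [Fintype ι] [DecidableEq ι] (ρ : G →* Matrix ι ι K) (S : Set (ι → K))
    (hS0 : ∀ u ∈ S, u ≠ 0) (hSG : ∀ (g : G), ∀ u ∈ S, ρ g *ᵥ u ∈ S)
    (hex : ∀ g : G, (∃ k, g ^ p ^ k = 1) → ∃ u ∈ S, ρ g *ᵥ u = u)
    (huniq : ∀ g : G, g ≠ 1 → ∀ u ∈ S, ∀ v ∈ S, ρ g *ᵥ u = u → ρ g *ᵥ v = v → ∃ c : K, v = c • u)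
    (hstab : ∀ u ∈ S, ∀ g : G, ρ g *ᵥ u = u → ∃ k, g ^ p ^ k = 1) :
    ∀ P Q : Sylow p G, ∀ g : G, g ≠ 1 → g ∈ (P : Subgroup G) → g ∈ (Q : Subgroup G) → P = Q := by
  let St : (ι → K) → Subgroup G := fun u =>
    { carrier := {g | ρ g *ᵥ u = u}
      one_mem' := by simp
      mul_mem' := by
        intro a b ha hb
        simp only [Set.mem_setOf_eq] at ha hb ⊢
        rw [map_mul, ← mulVec_mulVec, hb, ha]
      inv_mem' := by
        intro a ha
        simp only [Set.mem_setOf_eq] at ha ⊢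
        conv_lhs => rw [← ha]
        rw [mulVec_mulVec, ← map_mul, inv_mul_cancel, map_one, one_mulVec] }
  have key : ∀ P : Sylow p G, (∃ g ∈ (P : Subgroup G), g ≠ 1) →
      ∃ u ∈ S, (P : Subgroup G) = St u := by
    rintro P ⟨g, hg, hg1⟩
    have : Nontrivial ↥(P : Subgroup G) := ⟨⟨⟨g, hg⟩, 1, fun h => hg1 (congrArg Subtype.val h)⟩⟩
    have : Nontrivial (Subgroup.center ↥(P : Subgroup G)) := P.isPGroup'.center_nontrivial
    obtain ⟨z, hz⟩ := exists_ne (1 : Subgroup.center ↥(P : Subgroup G))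
    have hzp : ∃ k, (z.1 : G) ^ p ^ k = 1 := by
      obtain ⟨k, hk⟩ := P.isPGroup' z.1
      exact ⟨k, by simpa using congrArg Subtype.val hk⟩
    obtain ⟨u, hu, huz⟩ := hex _ hzp
    have hle : (P : Subgroup G) ≤ St u := by
      intro h hh
      have hcomm : (z.1 : G) * h = h * (z.1 : G) :=
        congrArg Subtype.val ((Subgroup.mem_center_iff.1 z.2) ⟨h, hh⟩).symm
      obtain ⟨c, hc⟩ := huniq (z.1 : G) (fun h1 => hz (Subtype.ext (Subtype.ext h1))) u hu _ (hSG h u hu) huz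
        (by rw [mulVec_mulVec, ← map_mul, hcomm, map_mul, ← mulVec_mulVec, huz])
      obtain ⟨k, hk⟩ := P.isPGroup' ⟨h, hh⟩
      have hk' : h ^ p ^ k = 1 := by simpa using congrArg Subtype.val hk
      have hpow : ∀ n : ℕ, ρ (h ^ n) *ᵥ u = c ^ n • u := by
        intro n
        induction n with
        | zero => simp
        | succ n ihn => rw [pow_succ, map_mul, ← mulVec_mulVec, hc, mulVec_smul, ihn, smul_smul, pow_succ']
      have hck : c ^ p ^ k = 1 := by
        have := hpow (p ^ k)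
        rw [hk', map_one, one_mulVec] at this
        have h2 : (1 : K) • u = c ^ p ^ k • u := by rw [one_smul]; exact this
        exact (smul_left_injective K (hS0 u hu) h2).symm
      have hc1 : c = 1 := by
        have h2 : (c - 1) ^ p ^ k = 0 := by rw [sub_pow_char_pow, hck, one_pow, sub_self]
        exact sub_eq_zero.1 (eq_zero_of_pow_eq_zero h2)
      show ρ h *ᵥ u = u
      rw [hc, hc1, one_smul]
    refine ⟨u, hu, (P.is_maximal' ?_ hle).symm⟩
    rintro ⟨x, hx⟩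
    obtain ⟨k, hk⟩ := hstab u hu x hx
    exact ⟨k, Subtype.ext (by simpa using hk)⟩
  intro P Q g hg hgP hgQ
  obtain ⟨u, hu, hPu⟩ := key P ⟨g, hgP, hg⟩
  obtain ⟨v, hv, hQv⟩ := key Q ⟨g, hgQ, hg⟩
  obtain ⟨c, hc⟩ := huniq g hg u hu v hv (by rw [hPu] at hgP; exact hgP) (by rw [hQv] at hgQ; exact hgQ)
  apply Sylow.ext
  refine (P.is_maximal' Q.isPGroup' ?_).symm
  rw [hPu, hQv]
  intro x hx
  show ρ x *ᵥ v = v
  rw [hc, mulVec_smul, show ρ x *ᵥ u = u from hx]

end Cfsg.Agent.Qd
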