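import Cfsg.Agent.Lib.Qd.Linear
import Cfsg.Agent.Lib.Coprime.Basic
import Cfsg.Agent.Lib.PSL2.Basic
import Cfsg.Prelude.Def_LocalEven

/-!
# The group `F(p)` from a natural module of the upper triangular group

* `involves_qd_part_of_natural`: as `involves_qd_of_natural`, for a map onto a subgroup containing `-1`;
* `exists_surjective_fOver`: sections `F(p)`;
* `involves_fOver_of_le_sup`: `F(p)` passes through a normalised subgroup of order prime to `p`.
-/

set_option autoImplicit false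
set_option linter.style.haveILetI false

namespace Cfsg.Agent.Qd

open Subgroup
open scoped MatrixGroups
open Cfsg.Agent.RankTwo

variable {p : ℕ} [Fact p.Prime]

theorem qdProj_vec_lin (v : Multiplicative (Fin 2 → ZMod p)) (s : SL(2, ZMod p)) :
    qdProj (qdVec v * qdLin s) = s := by
  have h1 : qdVec v ∈ (qdProj (p := p)).ker := qdProj_ker (p := p) ▸ mem_qdTrans.2 ⟨_, rfl⟩
  rw [map_mul, MonoidHom.mem_ker.1 h1, one_mul]
  exact Matrix.SpecialLinearGroup.ext _ _ fun i j => by fin_cases i <;> fin_cases j <;> rfl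

/-- The affine group of a subgroup of `SL(2, p)` from an equivariant map. -/
theorem exists_affine_of_natural {G : Type*} [Group G] [Finite G] (h2 : p ≠ 2) {A X : Subgroup G}
    (hAp : IsPGroup p A) (hXA : X ≤ normalizer (A : Set G))
    (π : X →* SL(2, ZMod p)) (hneg : -1 ∈ π.range)
    (g : A →* Multiplicative (Fin 2 → ZMod p)) (hg : Function.Surjective g)
    (heq : ∀ (x : X) (a : A), g ⟨(x : G) * a * (x : G)⁻¹, (mem_normalizer_iff.1 (hXA x.2) a).1 a.2⟩ =
      Multiplicative.ofAdd ((π x : Matrix (Fin 2) (Fin 2) (ZMod p)).mulVec (g a).toAdd)) :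
    ∃ (K : Subgroup G) (ψ : K →* ↥(Cfsg.qd p)), K ≤ A ⊔ X ∧ ψ.range = π.range.comap qdProj := by
  haveI : Fact (Nat.Prime 2) := ⟨Nat.prime_two⟩
  have hF := two_ne_zero' h2
  have hm1 : (-1 : SL(2, ZMod p)) ≠ 1 := fun h => hF (PSL2.neg_one_eq_one_iff.1 h)
  set Z := zpowers (-1 : SL(2, ZMod p))
  haveI : Z.Normal := ⟨fun z hz x => by
    obtain ⟨k, rfl⟩ := hz
    rw [← conj_zpow, show x * -1 * x⁻¹ = (-1 : SL(2, ZMod p)) by simp]
    exact zpow_mem (mem_zpowers _) k⟩
  set M := Z.comap π with hM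
  obtain ⟨T⟩ : Nonempty (Sylow 2 M) := inferInstance
  set T' := (T : Subgroup M).map M.subtype with hT'
  set X₁ := normalizer (T' : Set X) with hX₁
  have hfr : X₁ ⊔ M = ⊤ := Sylow.normalizer_sup_eq_top T
  -- `T` contains a lift of `-1`
  obtain ⟨t, htT, ht⟩ : ∃ t ∈ T', π t = -1 := by
    by_contra! hno
    let f : M →* Z := (π.comp M.subtype).codRestrict Z fun x => x.2
    have hf : Function.Surjective f := by
      rintro ⟨z, hz⟩
      obtain ⟨x, rfl⟩ : z ∈ π.range := zpowers_le.2 hneg hz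
      exact ⟨⟨x, hz⟩, rfl⟩
    have hZ : IsPGroup 2 Z := fun z => ⟨1, Subtype.ext (by
      obtain ⟨k, hk⟩ := z.2
      rw [pow_one, Subgroup.coe_pow, Subgroup.coe_one, ← hk]
      dsimp only
      rw [← zpow_natCast, ← zpow_mul, mul_comm, zpow_mul, zpow_natCast, neg_one_sq, one_zpow])⟩
    have h1 : ((T.mapSurjective hf : Sylow 2 Z) : Subgroup Z) = ⊤ :=
      ((T.mapSurjective hf).is_maximal' (hZ.of_equiv topEquiv.symm) le_top).symm
    obtain ⟨m, hmT, hm⟩ : (⟨-1, mem_zpowers _⟩ : Z) ∈ (T : Subgroup M).map f := by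
      rw [← Sylow.coe_mapSurjective hf, h1]; exact mem_top _
    exact hno m (mem_map_of_mem _ hmT) (congrArg Subtype.val hm)
  have htX₁ : t ∈ X₁ := le_normalizer htT
  have hπ₁ : ∀ s ∈ π.range, ∃ x ∈ X₁, π x = s := by
    rintro _ ⟨x, rfl⟩
    haveI : M.Normal := Normal.comap ‹_› π
    obtain ⟨y, hy, m, hm, rfl⟩ :=
      mem_sup_of_normal_right.1 (hfr ▸ mem_top x : x ∈ X₁ ⊔ M)
    obtain ⟨k, hk⟩ := hm
    exact ⟨y * t ^ k, mul_mem hy (zpow_mem htX₁ k), by
      simp only at hk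
      rw [map_mul, map_mul, map_zpow, ht, hk]⟩
  -- the semidirect product
  have hleN : X₁.map X.subtype ≤ normalizer (A : Set G) := (map_subtype_le _).trans hXA
  let act : X₁ →* MulAut A :=
    (A.normalizerMonoidHom).comp ((inclusion hXA).comp X₁.subtype)
  let ρ : A ⋊[act] X₁ →* G := SemidirectProduct.lift A.subtype (X.subtype.comp X₁.subtype)
    fun x => MonoidHom.ext fun a => rfl
  let σ : A ⋊[act] X₁ →* ↥(Cfsg.qd p) := SemidirectProduct.lift (qdVec.comp g)
    (qdLin.comp (π.comp X₁.subtype)) fun x => MonoidHom.ext fun a => by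
      show qdVec (g _) = qdLin (π x) * qdVec (g a) * (qdLin (π x))⁻¹
      rw [qdLin_mul_qdVec, ← heq]
      rfl
  have hker : ∀ w, ρ w = 1 → σ w = 1 := by
    rintro ⟨a, x⟩ hw
    have hw' : (a : G) * ((x : X) : G) = 1 := hw
    have hxA : ((x : X) : G) ∈ A := by
      rw [eq_inv_of_mul_eq_one_right hw']; exact inv_mem a.2
    -- `x` acts trivially
    have hx1 : π x = 1 := by
      have h : ∀ v, (π x : Matrix (Fin 2) (Fin 2) (ZMod p)).mulVec v = v := by
        intro v
        obtain ⟨b, hb⟩ := hg (Multiplicative.ofAdd v)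
        have := heq x b
        rw [hb, toAdd_ofAdd] at this
        apply Multiplicative.ofAdd.injective
        rw [← this, ← hb,
          show (⟨((x : X) : G) * b * ((x : X) : G)⁻¹, _⟩ : A) =
            ⟨_, hxA⟩ * b * (⟨_, hxA⟩ : A)⁻¹ from Subtype.ext rfl,
          map_mul, map_mul, map_inv, mul_comm (g ⟨_, hxA⟩), mul_inv_cancel_right]
      apply Subtype.ext
      apply Matrix.toLin'.injective
      exact LinearMap.ext fun v => by simpa using h v
    -- `[x, t] ∈ T ∩ A = 1`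
    have hc : ((x : X) : G) * (t : G) = (t : G) * ((x : X) : G) := by
      have hcT : (x : X) * t * (x : X)⁻¹ * t⁻¹ ∈ T' :=
        mul_mem ((mem_normalizer_iff.1 x.2 t).1 htT) (inv_mem htT)
      have hcA : ((x : X) : G) * t * ((x : X) : G)⁻¹ * (t : G)⁻¹ ∈ A := by
        rw [mul_assoc, mul_assoc, ← mul_assoc (t : G)]
        exact mul_mem hxA ((mem_normalizer_iff.1 (hXA t.2) _).1 (inv_mem hxA))
      obtain ⟨j, hj⟩ := (T.2.map M.subtype) ⟨_, hcT⟩
      obtain ⟨i, hi⟩ := hAp ⟨_, hcA⟩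
      have h1 := eq_one_of_pow_two_pow (H := G) Fact.out h2 (congrArg Subtype.val hi)
        (congrArg (fun z : T' => ((z : X) : G)) hj)
      rwa [mul_inv_eq_one, mul_inv_eq_iff_eq_mul] at h1
    have hga : g a = 1 := by
      have ha : (a : G) = ((x : X) : G)⁻¹ := eq_inv_of_mul_eq_one_left hw'
      have := heq t a
      rw [show (⟨(t : G) * a * (t : G)⁻¹, _⟩ : A) = a from Subtype.ext (by
        show (t : G) * a * (t : G)⁻¹ = a
        rw [mul_inv_eq_iff_eq_mul, ha]
        exact (inv_mul_eq_iff_eq_mul.2 (by rw [← mul_assoc, hc, mul_inv_cancel_right])).symm),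
        ht] at this
      apply Multiplicative.toAdd.injective
      have e := congrArg Multiplicative.toAdd this
      rw [toAdd_ofAdd] at e
      simp [Matrix.neg_mulVec] at e
      funext i
      have ei := congrFun e i
      simp at ei
      have : (2 : ZMod p) * (g a).toAdd i = 0 := by linear_combination ei
      simpa using (mul_eq_zero.1 this).resolve_left hF
    show qdVec (g a) * qdLin (π x) = 1
    rw [hga, hx1, map_one, map_one, one_mul]
  let φ : ρ.range →* ↥(Cfsg.qd p) :=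
    (ρ.rangeRestrict.liftOfSurjective ρ.rangeRestrict_surjective)
      ⟨σ, fun w hw => hker w (congrArg Subtype.val (MonoidHom.mem_ker.1 hw))⟩
  have hφ : ∀ w, φ (ρ.rangeRestrict w) = σ w := fun w =>
    MonoidHom.liftOfRightInverse_comp_apply _ _ _ _ _
  refine ⟨ρ.range, φ, ?_, ?_⟩
  · rintro _ ⟨w, rfl⟩
    exact mul_mem (mem_sup_left w.left.2) (mem_sup_right (w.right : X).2)
  ext y
  obtain ⟨v, s, rfl⟩ := exists_eq_vec_mul_lin y
  have hproj := qdProj_vec_lin v s
  rw [mem_comap, hproj]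
  constructor
  · rintro ⟨u, hu⟩
    obtain ⟨w, rfl⟩ := ρ.rangeRestrict_surjective u
    rw [hφ] at hu
    have e := congrArg qdProj hu
    rw [hproj] at e
    rw [← e]
    exact ⟨w.right, (qdProj_vec_lin (g w.left) (π w.right)).symm⟩
  · intro hs
    obtain ⟨a, rfl⟩ := hg v
    obtain ⟨x, hx, rfl⟩ := hπ₁ s hs
    exact ⟨ρ.rangeRestrict ⟨a, ⟨x, hx⟩⟩, hφ _⟩

/-- The preimage of the upper triangular group is `F(p)`. -/
theorem map_comap_borel :
    ((PSL2.borel (ZMod p)).comap qdProj).map (Cfsg.qd p).subtype = Cfsg.fOver (ZMod p) := by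
  refine le_antisymm ?_ ((closure_le _).2 ?_)
  · rintro _ ⟨y, hy, rfl⟩
    obtain ⟨r0, r1, r2⟩ := ent_row y
    exact subset_closure ⟨hy, r0, r1, r2⟩
  · rintro M ⟨h10, h20, h21, h22⟩
    exact ⟨⟨M, subset_closure ⟨h20, h21, h22⟩⟩, h10, rfl⟩

/-- A section `F(p)` from a natural module of the upper triangular group. -/
theorem exists_surjective_fOver {G : Type*} [Group G] [Finite G] (h2 : p ≠ 2) {A X : Subgroup G}
    (hAp : IsPGroup p A) (hXA : X ≤ normalizer (A : Set G))
    (π : X →* SL(2, ZMod p)) (hπ : π.range = PSL2.borel (ZMod p))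
    (g : A →* Multiplicative (Fin 2 → ZMod p)) (hg : Function.Surjective g)
    (heq : ∀ (x : X) (a : A), g ⟨(x : G) * a * (x : G)⁻¹, (mem_normalizer_iff.1 (hXA x.2) a).1 a.2⟩ =
      Multiplicative.ofAdd ((π x : Matrix (Fin 2) (Fin 2) (ZMod p)).mulVec (g a).toAdd)) :
    ∃ (K : Subgroup G) (ψ : K →* ↥(Cfsg.fOver (ZMod p))),
      K ≤ A ⊔ X ∧ Function.Surjective ψ := by
  obtain ⟨K, ψ, hK, hψ⟩ := exists_affine_of_natural h2 hAp hXA π
    (hπ.symm ▸ show (-1 : SL(2, ZMod p)) ∈ PSL2.borel (ZMod p) by simp [PSL2.mem_borel]) g hg heq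
  rw [hπ] at hψ
  refine ⟨K, ((Cfsg.qd p).subtype.comp ψ).codRestrict _ fun k => ?_, hK, fun y => ?_⟩
  · rw [← map_comap_borel, ← hψ]
    exact ⟨_, ⟨k, rfl⟩, rfl⟩
  · obtain ⟨u, hu, hu'⟩ : (y : Matrix.SpecialLinearGroup (Fin 3) (ZMod p)) ∈
        ((PSL2.borel (ZMod p)).comap qdProj).map (Cfsg.qd p).subtype := by
      rw [map_comap_borel]; exact y.2
    rw [← hψ] at hu
    obtain ⟨k, rfl⟩ := hu
    exact ⟨k, Subtype.ext hu'⟩

/-- `F(p)` has no nontrivial normal subgroup of order prime to `p`. -/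
theorem fOver_normal_eq_bot (N : Subgroup ↥(Cfsg.fOver (ZMod p))) [N.Normal]
    (hN : (Nat.card N).Coprime p) : N = ⊥ := by
  rw [eq_bot_iff]
  intro n hn
  obtain ⟨m, hm, hmn⟩ : (n : Matrix.SpecialLinearGroup (Fin 3) (ZMod p)) ∈
      ((PSL2.borel (ZMod p)).comap qdProj).map (Cfsg.qd p).subtype := by
    rw [map_comap_borel]; exact n.2
  have hpow : ∀ u : ↥(Cfsg.qd p), u ∈ qdTrans p → u ^ p = 1 := by
    intro u hu
    obtain ⟨v, rfl⟩ := mem_qdTrans.1 hu
    have : ∀ k : ℕ, qdT v ^ k = qdT (k • v) := by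
      intro k
      induction k with
      | zero => simp [qdT_zero]
      | succ k ih => rw [pow_succ, ih, qdT_mul, succ_nsmul]
    rw [this, show p • v = 0 from Prod.ext (by simp) (by simp), qdT_zero]
  -- `n` and a translation commute
  have htriv : ∀ w : ↥(Cfsg.qd p), w ∈ qdTrans p → ∀ w' : ↥(Cfsg.fOver (ZMod p)),
      (w' : Matrix.SpecialLinearGroup (Fin 3) (ZMod p)) = w.1 → w' ∈ N → w = 1 := by
    intro w hw w' he hw'
    have h1 : orderOf w' ∣ p := by
      rw [← Subgroup.orderOf_coe, he, Subgroup.orderOf_coe]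
      exact orderOf_dvd_of_pow_eq_one (hpow w hw)
    have h2 : orderOf w' ∣ Nat.card N := by
      simpa using orderOf_dvd_natCard (⟨w', hw'⟩ : N)
    have := orderOf_eq_one_iff.1 (Nat.eq_one_of_dvd_coprimes hN h2 h1)
    refine Subtype.ext ?_
    rw [← he, this]
    rfl
  have hmem : ∀ w : ↥(Cfsg.qd p), w ∈ qdTrans p → w.1 ∈ Cfsg.fOver (ZMod p) := by
    intro w hw
    rw [← map_comap_borel]
    refine ⟨w, ?_, rfl⟩
    show qdProj w ∈ PSL2.borel (ZMod p)
    rw [MonoidHom.mem_ker.1 (qdProj_ker (p := p) ▸ hw : w ∈ (qdProj (p := p)).ker)]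
    exact one_mem _
  have hcomm : ∀ w : ↥(Cfsg.qd p), w ∈ qdTrans p → m * w = w * m := by
    intro w hw
    haveI := qdTrans_normal (p := p)
    set c := m * w * m⁻¹ * w⁻¹ with hc
    have hct : c ∈ qdTrans p := mul_mem (Subgroup.Normal.conj_mem inferInstance w hw m) (inv_mem hw)
    let w' : ↥(Cfsg.fOver (ZMod p)) := ⟨w.1, hmem w hw⟩
    have hc' : n * (w' * n⁻¹ * w'⁻¹) ∈ N :=
      mul_mem hn (Subgroup.Normal.conj_mem inferInstance _ (inv_mem hn) w')
    have := htriv c hct _ (by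
      show (n : Matrix.SpecialLinearGroup (Fin 3) (ZMod p)) * (w.1 * n.1⁻¹ * w.1⁻¹) = _
      rw [← hmn, hc]; simp [mul_assoc]) hc'
    rwa [hc, mul_inv_eq_one, mul_inv_eq_iff_eq_mul] at this
  obtain ⟨v, M, rfl⟩ := exists_eq_vec_mul_lin m
  have hM : M = 1 := by
    have h : ∀ u, (M : Matrix (Fin 2) (Fin 2) (ZMod p)).mulVec u = u := by
      intro u
      have h1 := hcomm (qdVec (Multiplicative.ofAdd u)) (mem_qdTrans.2 ⟨_, rfl⟩)
      have h2 : qdLin M * qdVec (Multiplicative.ofAdd u) = qdVec (Multiplicative.ofAdd u) * qdLin M := by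
        refine mul_left_cancel (a := qdVec v) ?_
        calc qdVec v * (qdLin M * qdVec (Multiplicative.ofAdd u))
            = qdVec v * qdLin M * qdVec (Multiplicative.ofAdd u) := (mul_assoc _ _ _).symm
          _ = qdVec (Multiplicative.ofAdd u) * (qdVec v * qdLin M) := h1
          _ = qdVec (Multiplicative.ofAdd u * v) * qdLin M := by rw [map_mul, mul_assoc]
          _ = qdVec (v * Multiplicative.ofAdd u) * qdLin M := by rw [mul_comm v]
          _ = qdVec v * (qdVec (Multiplicative.ofAdd u) * qdLin M) := by rw [map_mul, mul_assoc]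
      rw [← mul_inv_eq_iff_eq_mul, qdLin_mul_qdVec] at h2
      have h3 := congrArg (fun z : ↥(Cfsg.qd p) => (z.1 : Matrix (Fin 3) (Fin 3) (ZMod p))) h2
      simp only [qdVec, MonoidHom.mk'_apply, qdT_val, toAdd_ofAdd] at h3
      funext i
      fin_cases i
      · simpa using congrFun (congrFun h3 0) 2
      · simpa using congrFun (congrFun h3 1) 2
    apply Subtype.ext
    apply Matrix.toLin'.injective
    exact LinearMap.ext fun u => by simpa using h u
  rw [mem_bot]
  have := htriv (qdVec v * qdLin M) (by rw [hM, map_one, mul_one]; exact mem_qdTrans.2 ⟨_, rfl⟩) n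
    hmn.symm hn
  apply Subtype.ext
  rw [← hmn, this]
  rfl

/-- `F(p)` passes through a normalized subgroup of order prime to `p`. -/
theorem involves_fOver_of_le_sup {G : Type*} [Group G] [Finite G] {K D H₀ H : Subgroup G}
    (ψ : K →* ↥(Cfsg.fOver (ZMod p))) (hψ : Function.Surjective ψ)
    (hD : (Nat.card D).Coprime p) (hKD : K ≤ normalizer (D : Set G))
    (hHD : H₀ ≤ normalizer (D : Set G)) (hK : K ≤ D ⊔ H₀) (hH : H₀ ≤ H) :
    Cfsg.Involves ↥(Cfsg.fOver (ZMod p)) ↥H := by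
  have h1 : ∀ k : K, (k : G) ∈ D → ψ k = 1 := by
    have hn : ((D.subgroupOf K).map ψ).Normal := by
      haveI : (D.subgroupOf K).Normal :=
        ⟨fun x hx y => (mem_normalizer_iff.1 (hKD y.2) _).1 hx⟩
      exact Subgroup.Normal.map inferInstance ψ hψ
    have hc : (Nat.card ((D.subgroupOf K).map ψ)).Coprime p := by
      refine hD.coprime_dvd_left ((card_map_dvd _ _).trans ?_)
      rw [← card_map_of_injective (f := K.subtype) (K.subtype_injective)]
      exact card_dvd_of_le (by rw [subgroupOf_map_subtype]; exact inf_le_left)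
    intro k hk
    have := fOver_normal_eq_bot _ hc
    exact mem_bot.1 (this ▸ mem_map_of_mem ψ (show k ∈ D.subgroupOf K from hk))
  set K₁ := H₀ ⊓ (D ⊔ K) with hK₁
  have hex : ∀ x : K₁, ∃ k : K, (x : G) * (k : G)⁻¹ ∈ D := by
    intro x
    obtain ⟨d, hd, k, hk, e⟩ := (Coprime.mem_sup_iff_of_le_normalizer' hKD).1 (sup_comm D K ▸ x.2.2)
    exact ⟨⟨k, hk⟩, by rw [← e]; simpa using hd⟩
  choose f hf using hex
  have huniq : ∀ (x : K₁) (k : K), (x : G) * (k : G)⁻¹ ∈ D → ψ (f x) = ψ k := by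
    intro x k hk
    have e : ((f x * k⁻¹ : K) : G) ∈ D := by
      have := mul_mem (inv_mem (hf x)) hk
      simpa [mul_assoc] using this
    have := h1 _ e
    rwa [map_mul, map_inv, mul_inv_eq_one] at this
  let θ : K₁ →* ↥(Cfsg.fOver (ZMod p)) := MonoidHom.mk' (fun x => ψ (f x)) fun x y => by
    rw [← map_mul]
    refine huniq _ _ ?_
    have e : ((x * y : K₁) : G) * ((f x * f y : K) : G)⁻¹ =
        ((x : G) * (f x : G)⁻¹) * ((f x : G) * ((y : G) * (f y : G)⁻¹) * (f x : G)⁻¹) := by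
      simp [mul_assoc]
    rw [e]
    exact mul_mem (hf x) ((mem_normalizer_iff.1 (hKD (f x).2) _).1 (hf y))
  have hθ : Function.Surjective θ := by
    intro z
    obtain ⟨k, rfl⟩ := hψ z
    obtain ⟨d, hd, h, hh, e⟩ := (Coprime.mem_sup_iff_of_le_normalizer' hHD).1 (sup_comm D H₀ ▸ hK k.2)
    have hx : h ∈ K₁ := ⟨hh, by
      rw [show h = d⁻¹ * k by rw [← e]; group]
      exact mul_mem (mem_sup_left (inv_mem hd)) (mem_sup_right k.2)⟩
    exact ⟨⟨h, hx⟩, huniq _ k (by rw [← e]; simpa using inv_mem hd)⟩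
  let e : ↥(K₁.subgroupOf H) ≃* K₁ := subgroupOfEquivOfLe (inf_le_left.trans hH)
  exact ConjFun.involves_of_surjective (K₁.subgroupOf H) (θ.comp e.toMonoidHom)
    (hθ.comp e.surjective)

end Cfsg.Agent.Qd
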