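import Cfsg.Agent.Lib.Qd.Linear

/-!
# A section `Qd(p)` is seen in the normalizer of a `p`-centric subgroup

* `involves_qd_quotient_of_coprime`;
* `exists_centric_involves_qd`.
-/

set_option autoImplicit false
set_option linter.style.haveILetI false

namespace Cfsg.Agent.Qd

open Subgroup
open scoped MatrixGroups
open Cfsg.Agent.RankTwo

variable {p : ℕ} [Fact p.Prime]

/-- The vector of a translation. -/
def transVec : qdTrans p →* Multiplicative (Fin 2 → ZMod p) :=
  MonoidHom.mk' (fun v => Multiplicative.ofAdd ![ent v.1 0 2, ent v.1 1 2]) fun a b => by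
    obtain ⟨u, hu⟩ := mem_qdTrans.1 a.2
    obtain ⟨w, hw⟩ := mem_qdTrans.1 b.2
    apply Multiplicative.toAdd.injective
    show ![ent (a.1 * b.1) 0 2, ent (a.1 * b.1) 1 2] =
      ![ent a.1 0 2, ent a.1 1 2] + ![ent b.1 0 2, ent b.1 1 2]
    rw [← hu, ← hw, qdT_mul]
    funext i
    fin_cases i <;> simp [ent, qdT_val]

theorem transVec_apply (v : qdTrans p) :
    transVec v = Multiplicative.ofAdd ![ent v.1 0 2, ent v.1 1 2] := rfl

theorem transVec_qdT {x : ↥(Cfsg.qd p)} {w : Multiplicative (Fin 2 → ZMod p)}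
    (h : x = qdT (w.toAdd 0, w.toAdd 1)) {hx : x ∈ qdTrans p} : transVec ⟨x, hx⟩ = w := by
  apply Multiplicative.toAdd.injective
  rw [transVec_apply, toAdd_ofAdd]
  subst h
  funext i
  fin_cases i <;> simp [ent, qdT_val]

theorem qdT_conj_val (y : ↥(Cfsg.qd p)) (v w : ZMod p × ZMod p) (h : y * qdT v = qdT w * y) :
    (qdProj y : Matrix (Fin 2) (Fin 2) (ZMod p)).mulVec ![v.1, v.2] = ![w.1, w.2] := by
  obtain ⟨r0, r1, r2⟩ := ent_row y
  have e0 := congrArg (fun x => ent x 0 2) h
  have e1 := congrArg (fun x => ent x 1 2) h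
  simp only [ent_mul] at e0 e1
  simp only [ent] at r0 r1 r2
  simp [ent, qdT_val, r2] at e0 e1
  funext i
  fin_cases i <;> simp [qdProj, qdProjFun, ent, Matrix.mulVec, dotProduct, Fin.sum_univ_two] <;>
    grind

theorem transVec_conj (y : ↥(Cfsg.qd p)) (v : qdTrans p) (h : y * (v : ↥(Cfsg.qd p)) * y⁻¹ ∈ qdTrans p) :
    (transVec ⟨y * (v : ↥(Cfsg.qd p)) * y⁻¹, h⟩).toAdd =
      (qdProj y : Matrix (Fin 2) (Fin 2) (ZMod p)).mulVec (transVec v).toAdd := by
  obtain ⟨v, hv⟩ := v
  obtain ⟨u, rfl⟩ := mem_qdTrans.1 hv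
  obtain ⟨w, hw⟩ := qdT_conj y u
  have h1 := qdT_conj_val y u w (by rw [← hw, inv_mul_cancel_right])
  have e : ∀ t : ZMod p × ZMod p, ∀ ht : qdT t ∈ qdTrans p,
      (transVec ⟨qdT t, ht⟩).toAdd = ![t.1, t.2] := by
    intro t ht
    rw [transVec_apply, toAdd_ofAdd]
    funext i
    fin_cases i <;> simp [ent, qdT_val]
  rw [e u hv, h1, show (⟨y * qdT u * y⁻¹, h⟩ : qdTrans p) = ⟨qdT w, mem_qdTrans.2 ⟨w, rfl⟩⟩ from
    Subtype.ext hw, e]

variable {G : Type*} [Group G] [Finite G]

/-- Normal `p'`-subgroups do not matter. -/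
theorem involves_qd_quotient_of_coprime (O : Subgroup G) [O.Normal] (hO : (Nat.card O).Coprime p)
    (h : Cfsg.Involves ↥(Cfsg.qd p) G) : Cfsg.Involves ↥(Cfsg.qd p) (G ⧸ O) := by
  obtain ⟨K, φ, hφ⟩ := ConjFun.exists_surjective_of_involves h
  set D := (O.subgroupOf K).map φ with hD
  haveI : D.Normal := Normal.map inferInstance φ hφ
  haveI : (qdTrans p).Normal := qdTrans_normal
  have hDc : (Nat.card D).Coprime p := hO.coprime_dvd_left
    (((O.subgroupOf K).card_map_dvd φ).trans (card_comap_dvd_of_injective O K.subtype K.subtype_injective))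
  have hdis : Disjoint (qdTrans p) D :=
    PCore.disjoint_of_isPGroup_of_coprime isPGroup_qdTrans hDc
  have hDT : D ≤ qdTrans p := fun d hd => centralizer_qdTrans_le (mem_centralizer_iff.2 fun v hv =>
    commute_of_normal_of_disjoint _ _ inferInstance inferInstance hdis v d hv hd)
  have hD1 : D = ⊥ := hdis.eq_bot_of_ge hDT
  let q : K →* K.map (QuotientGroup.mk' O) := (QuotientGroup.mk' O).subgroupMap K
  have hq : Function.Surjective q := (QuotientGroup.mk' O).subgroupMap_surjective K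
  let ψ := q.liftOfSurjective hq ⟨φ, fun x hx => by
    have hxO : (x : G) ∈ O := (QuotientGroup.eq_one_iff (x : G)).1
      (congrArg Subtype.val (MonoidHom.mem_ker.1 hx))
    have : φ x ∈ D := mem_map_of_mem φ hxO
    rwa [hD1, mem_bot] at this⟩
  refine ConjFun.involves_of_surjective _ ψ fun y => ?_
  obtain ⟨x, rfl⟩ := hφ y
  exact ⟨q x, MonoidHom.liftOfRightInverse_comp_apply _ _ _ _ _⟩

/-- A section `Qd(p)` appears in the normalizer of a `p`-subgroup `R` containing every `p`-subgroup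
of its centralizer. -/
theorem exists_centric_involves_qd (h2 : p ≠ 2) (h : Cfsg.Involves ↥(Cfsg.qd p) G) :
    ∃ R : Subgroup G, IsPGroup p R ∧
      (∀ D : Subgroup G, IsPGroup p D → D ≤ centralizer (R : Set G) → D ≤ R) ∧
      Cfsg.Involves ↥(Cfsg.qd p) ↥(normalizer (R : Set G)) := by
  obtain ⟨K, φ, hφ⟩ := ConjFun.exists_surjective_of_involves h
  set M := (qdTrans p).comap φ with hM
  haveI : (qdTrans p).Normal := qdTrans_normal
  haveI : M.Normal := Normal.comap inferInstance _
  obtain ⟨T₀⟩ : Nonempty (Sylow p M) := inferInstance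
  set T₁ := (T₀ : Subgroup M).map M.subtype with hT₁
  set T := T₁.map K.subtype with hT
  have hTp : IsPGroup p T := (T₀.2.map _).map _
  have hT₁φ : ∀ t ∈ T₁, φ t ∈ qdTrans p := fun t ht => (map_subtype_le (H := M) (T₀ : Subgroup M) ht : t ∈ M)
  -- `T` maps onto the translations
  have hTon : ∀ v ∈ qdTrans p, ∃ t ∈ T₁, φ t = v := by
    let f : M →* qdTrans p := (φ.comp M.subtype).codRestrict (qdTrans p) fun x => x.2
    have hf : Function.Surjective f := by
      rintro ⟨y, hy⟩
      obtain ⟨x, rfl⟩ := hφ y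
      exact ⟨⟨x, hy⟩, rfl⟩
    have h1 : ((T₀.mapSurjective hf : Sylow p (qdTrans p)) : Subgroup (qdTrans p)) = ⊤ :=
      ((T₀.mapSurjective hf).is_maximal' (isPGroup_qdTrans.of_equiv topEquiv.symm) le_top).symm
    intro v hv
    obtain ⟨m, hm, hme⟩ : (⟨v, hv⟩ : qdTrans p) ∈ (T₀ : Subgroup M).map f := by
      rw [← Sylow.coe_mapSurjective hf, h1]; exact mem_top _
    exact ⟨m, mem_map_of_mem _ hm, congrArg Subtype.val hme⟩
  set Cn := centralizer (T : Set G) with hCn
  set N₀ := normalizer (T₁ : Set K) with hN₀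
  set N₁ := N₀.map K.subtype with hN₁
  have hN₁T : N₁ ≤ normalizer (T : Set G) := le_normalizer_map K.subtype
  -- the translation part
  let gv := transVec (p := p)
  let eT : T₁ ≃* T := T₁.equivMapOfInjective K.subtype K.subtype_injective
  let g : T →* Multiplicative (Fin 2 → ZMod p) :=
    gv.comp (((φ.comp T₁.subtype).codRestrict (qdTrans p) fun t => hT₁φ t t.2).comp eT.symm.toMonoidHom)
  have hgval : ∀ (t : K) (ht : t ∈ T₁) (ht' : (t : G) ∈ T),
      g ⟨t, ht'⟩ = gv ⟨φ t, hT₁φ t ht⟩ := by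
    intro t ht ht'
    show gv ⟨φ ((eT.symm ⟨(t : G), ht'⟩ : T₁) : K), _⟩ = _
    have : eT.symm ⟨(t : G), ht'⟩ = ⟨t, ht⟩ := eT.injective (by
      rw [MulEquiv.apply_symm_apply]; rfl)
    exact congrArg gv (Subtype.ext (congrArg (fun s : T₁ => φ (s : K)) this))
  have hg : Function.Surjective g := by
    intro w
    obtain ⟨t, ht, hte⟩ := hTon (qdT (w.toAdd 0, w.toAdd 1)) (mem_qdTrans.2 ⟨_, rfl⟩)
    refine ⟨⟨t, mem_map_of_mem _ ht⟩, ?_⟩
    refine (hgval t ht (mem_map_of_mem _ ht)).trans ?_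
    exact transVec_qdT hte
  have hgv := transVec_conj (p := p)
  -- elements of `K` centralizing `T` are linearly trivial
  have hcent : ∀ k : K, (k : G) ∈ Cn → qdProj (φ k) = 1 := by
    intro k hk
    rw [← MonoidHom.mem_ker, qdProj_ker]
    refine centralizer_qdTrans_le (mem_centralizer_iff.2 fun v hv => ?_)
    obtain ⟨t, ht, rfl⟩ := hTon v hv
    rw [← map_mul, ← map_mul, show t * k = k * t from
      Subtype.ext (mem_centralizer_iff.1 hk (t : G) (mem_map_of_mem _ ht))]
  -- the acting group `N₁ C(T)` modulo `C(T)`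
  haveI hCnN : (Cn.subgroupOf (normalizer (T : Set G))).Normal := inferInstance
  obtain ⟨T_C, hCle, hCp, hCs⟩ : ∃ C : Subgroup G, C ≤ Cn ∧ IsPGroup p C ∧
      ∃ S : Sylow p Cn, (S : Subgroup Cn).map Cn.subtype = C := by
    obtain ⟨S⟩ : Nonempty (Sylow p Cn) := inferInstance
    exact ⟨_, map_subtype_le _, S.2.map _, S, rfl⟩
  obtain ⟨S, hS⟩ := hCs
  have hCnT : Cn ≤ normalizer (T : Set G) := centralizer_le_normalizer _
  set R := T ⊔ T_C with hR
  refine ⟨R, hTp.to_sup_of_normal_left' hCp (hCle.trans hCnT), fun D hD hDC => ?_, ?_⟩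
  · have hDT : D ≤ Cn := hDC.trans (centralizer_le (le_sup_left : T ≤ R))
    have hDn : D ≤ normalizer (T_C : Set G) :=
      hDC.trans ((centralizer_le (le_sup_right : T_C ≤ R)).trans (centralizer_le_normalizer _))
    have hsup : IsPGroup p ↥(D ⊔ T_C) := hD.to_sup_of_normal_right' hCp hDn
    have hQp : IsPGroup p ↥((D ⊔ T_C).subgroupOf Cn) := hsup.comap_subtype
    have hSle : (S : Subgroup Cn) ≤ (D ⊔ T_C).subgroupOf Cn := by
      intro x hx
      have hxT : (x : G) ∈ T_C := by rw [← hS]; exact mem_map_of_mem Cn.subtype hx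
      rw [mem_subgroupOf]
      exact mem_sup_right hxT
    have h1 : (S : Subgroup Cn) = (D ⊔ T_C).subgroupOf Cn := (S.is_maximal' hQp hSle).symm
    have h2 : D ⊔ T_C = T_C := by
      have e := congrArg (Subgroup.map Cn.subtype) h1
      rw [hS, map_subgroupOf_eq_of_le (sup_le hDT hCle)] at e
      exact e.symm
    exact (le_sup_left.trans h2.le).trans le_sup_right
  · set NR := normalizer (R : Set G) with hNR
    have hkC : ∀ k ∈ N₀, ((k : K) : G) ∈ normalizer (Cn : Set G) := fun k hk => by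
      have hkN : ((k : K) : G) ∈ normalizer (T : Set G) := hN₁T (mem_map_of_mem _ hk)
      exact (normal_subgroupOf_iff_le_normalizer hCnT).1 hCnN hkN
    -- `X`: elements of `N(T) ∩ N(T_C)` acting on `T` as an element of `N₀`
    let X : Subgroup G :=
      { carrier := {x | x ∈ normalizer (T : Set G) ⊓ normalizer (T_C : Set G) ∧
          ∃ k ∈ N₀, x * ((k : K) : G)⁻¹ ∈ Cn}
        one_mem' := ⟨one_mem _, 1, one_mem _, by simp [one_mem]⟩
        mul_mem' := fun {x y} hx hy => by
          obtain ⟨k, hk, hxk⟩ := hx.2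
          obtain ⟨l, hl, hyl⟩ := hy.2
          refine ⟨mul_mem hx.1 hy.1, k * l, mul_mem hk hl, ?_⟩
          have := mul_mem hxk ((mem_normalizer_iff.1 (hkC k hk) _).1 hyl)
          convert this using 1
          push_cast
          group
        inv_mem' := fun {x} hx => by
          obtain ⟨k, hk, hxk⟩ := hx.2
          refine ⟨inv_mem hx.1, k⁻¹, inv_mem hk, ?_⟩
          have := (mem_normalizer_iff''.1 (hkC k hk) _).1 (inv_mem hxk)
          convert this using 1
          push_cast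
          group }
    have hXR : X ≤ NR := fun x hx => by
      rw [hNR, mem_normalizer_iff_map_conj_eq, hR, Subgroup.map_sup,
        mem_normalizer_iff_map_conj_eq.1 hx.1.1, mem_normalizer_iff_map_conj_eq.1 hx.1.2]
    have hXT : X ≤ normalizer (T : Set G) := fun x hx => hx.1.1
    choose κ hκ hκC using fun x : X => x.2.2
    have hκu : ∀ (x : X) k, k ∈ N₀ → (x : G) * ((k : K) : G)⁻¹ ∈ Cn →
        qdProj (φ (κ x)) = qdProj (φ k) := by
      intro x k hk hxk
      have h1 : (((κ x * k⁻¹ : K)) : G) ∈ Cn := by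
        have := mul_mem (inv_mem (hκC x)) hxk
        convert this using 1
        push_cast
        group
      have h2 := hcent _ h1
      rwa [map_mul, map_mul, map_inv, map_inv, mul_inv_eq_one] at h2
    let π : X →* SL(2, ZMod p) := MonoidHom.mk' (fun x => qdProj (φ (κ x))) fun x y => by
      rw [hκu (x * y) (κ x * κ y) (mul_mem (hκ x) (hκ y)), map_mul, map_mul]
      have := mul_mem (hκC x) ((mem_normalizer_iff.1 (hkC _ (hκ x)) _).1 (hκC y))
      convert this using 1
      push_cast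
      group
    have hπs : Function.Surjective π := by
      intro s
      obtain ⟨y, rfl⟩ := qdProj_surjective s
      obtain ⟨x, rfl⟩ := hφ y
      have hfr₁ : N₀ ⊔ M = ⊤ := Sylow.normalizer_sup_eq_top T₀
      obtain ⟨k, hk, m, hm, rfl⟩ := mem_sup_of_normal_right.1 (hfr₁ ▸ mem_top x : x ∈ N₀ ⊔ M)
      -- move `k` into `N(T_C)` by an element of `C(T)`
      set W := T_C.map (MulAut.conj ((k : K) : G)).toMonoidHom with hW
      have hWC : W ≤ Cn := by
        rintro _ ⟨z, hz, rfl⟩
        exact (mem_normalizer_iff.1 (hkC k hk) z).1 (hCle hz)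
      have hWp : IsPGroup p (W.subgroupOf Cn) := (hCp.map _).comap_subtype
      obtain ⟨S', hS'⟩ := hWp.exists_le_sylow
      obtain ⟨c, hc⟩ := MulAction.exists_smul_eq Cn S' S
      have hle : T_C.map (MulAut.conj ((c : G) * ((k : K) : G))).toMonoidHom ≤ T_C := by
        rintro _ ⟨z, hz, rfl⟩
        have hzW : ((k : K) : G) * z * ((k : K) : G)⁻¹ ∈ W := ⟨z, hz, rfl⟩
        have h1 : c * ⟨_, hWC hzW⟩ * c⁻¹ ∈ (S : Subgroup Cn) := by
          rw [← hc, Sylow.coe_subgroup_smul]
          exact smul_mem_pointwise_smul _ (MulAut.conj c) _ (hS' hzW)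
        rw [← hS]
        refine ⟨_, h1, ?_⟩
        show (c : G) * (((k : K) : G) * z * ((k : K) : G)⁻¹) * (c : G)⁻¹ =
          (c : G) * ((k : K) : G) * z * ((c : G) * ((k : K) : G))⁻¹
        group
      have hn : (c : G) * ((k : K) : G) ∈ normalizer (T_C : Set G) := by
        rw [mem_normalizer_iff_map_conj_eq]
        exact eq_of_le_of_card_ge hle (card_map_of_injective (MulAut.conj _).injective).ge
      have hmem : (c : G) * ((k : K) : G) ∈ X := ⟨⟨mul_mem (hCnT c.2)
        (hN₁T (mem_map_of_mem _ hk)), hn⟩, k, hk, by rw [mul_inv_cancel_right]; exact c.2⟩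
      refine ⟨⟨_, hmem⟩, ?_⟩
      show qdProj (φ (κ _)) = _
      rw [hκu ⟨_, hmem⟩ k hk (by simp), map_mul φ, map_mul qdProj,
        MonoidHom.mem_ker.1 ((qdProj_ker (p := p)).ge hm), mul_one]
    -- inside `N(R)`
    have hTR : T ≤ NR := le_sup_left.trans le_normalizer
    let eA := subgroupOfEquivOfLe hTR
    let eX := subgroupOfEquivOfLe hXR
    refine involves_qd_of_natural h2 (A := T.subgroupOf NR) (X := X.subgroupOf NR)
      (hTp.comap_subtype) (fun x hx => ?_) (π.comp eX.toMonoidHom) (hπs.comp eX.surjective)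
      (g.comp eA.toMonoidHom) (hg.comp eA.surjective) fun x a => ?_
    · rw [mem_normalizer_iff]
      exact fun y => mem_normalizer_iff.1 (hXT hx) (y : G)
    · have hk := hκ (eX x)
      obtain ⟨t, ht, hte⟩ : ((a : NR) : G) ∈ T := a.2
      have hkt : κ (eX x) * t * (κ (eX x))⁻¹ ∈ T₁ := (mem_normalizer_iff.1 hk t).1 ht
      have hconj : ((x : NR) : G) * ((a : NR) : G) * ((x : NR) : G)⁻¹ =
          ((κ (eX x) * t * (κ (eX x))⁻¹ : K) : G) := by
        have hc := mem_centralizer_iff.1 (hκC (eX x))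
          ((κ (eX x) * t * (κ (eX x))⁻¹ : K) : G) (mem_map_of_mem _ hkt)
        have h' : ((eX x : X) : G) = ((x : NR) : G) := rfl
        rw [h'] at hc
        set c := ((x : NR) : G) * ((κ (eX x) : K) : G)⁻¹ with hcdef
        have hx : ((x : NR) : G) = c * ((κ (eX x) : K) : G) := by rw [hcdef, inv_mul_cancel_right]
        rw [hx, ← hte]
        push_cast at hc ⊢
        calc c * ((κ (eX x) : K) : G) * (t : G) * (c * ((κ (eX x) : K) : G))⁻¹
            = c * (((κ (eX x) : K) : G) * (t : G) * ((κ (eX x) : K) : G)⁻¹) * c⁻¹ := by group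
          _ = ((κ (eX x) : K) : G) * (t : G) * ((κ (eX x) : K) : G)⁻¹ * c * c⁻¹ := by rw [← hc]
          _ = _ := by rw [mul_inv_cancel_right]
      have hga : g (eA a) = gv ⟨φ t, hT₁φ t ht⟩ := by
        rw [show eA a = ⟨(t : G), mem_map_of_mem _ ht⟩ from Subtype.ext hte.symm]
        exact hgval t ht _
      have hgx : (g.comp eA.toMonoidHom) ⟨(x : NR) * a * (x : NR)⁻¹,
          (mem_normalizer_iff.1 (hXT x.2) _).1 a.2⟩ = gv ⟨φ (κ (eX x) * t * (κ (eX x))⁻¹),
            hT₁φ _ hkt⟩ := by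
        exact (congrArg g (Subtype.ext hconj)).trans (hgval _ hkt (mem_map_of_mem _ hkt))
      rw [hgx, MonoidHom.comp_apply, MonoidHom.comp_apply]
      apply Multiplicative.toAdd.injective
      rw [toAdd_ofAdd]
      show _ = Matrix.mulVec _ (g (eA a)).toAdd
      rw [hga]
      refine (congrArg (fun z => (gv z).toAdd) (Subtype.ext ?_)).trans
        (hgv (φ (κ (eX x))) ⟨φ t, hT₁φ t ht⟩ (qdTrans_normal.conj_mem _ (hT₁φ t ht) _))
      simp

end Cfsg.Agent.Qd
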