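import Cfsg.Prelude.Def_LocalEven
import Cfsg.Agent.Lib.RankTwo.QdMatrices
import Cfsg.Agent.Lib.Replacement.Characteristic
import Cfsg.Agent.Lib.ZJControl.Basic

/-!
# `Qd(p)` is not `p`-stable and `Z(J)` does not control fusion in it

* `qdUpper`, `sylow_eq_qdUpper`;
* `not_isNormalizerPStable_of_equiv`;
* `exists_not_controls_zj_of_equiv`.
-/

set_option autoImplicit false
set_option linter.style.haveILetI false
set_option linter.unusedSimpArgs false

namespace Cfsg.Agent.Qd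

open Subgroup
open scoped commutatorElement MatrixGroups
open Cfsg.Agent.RankTwo

variable {p : ℕ}

/-- Entry of an element of `Qd(p)`. -/
abbrev ent (g : ↥(Cfsg.qd p)) (i j : Fin 3) : ZMod p :=
  (g.1 : Matrix (Fin 3) (Fin 3) (ZMod p)) i j

theorem ent_mul (g h : ↥(Cfsg.qd p)) (i j : Fin 3) :
    ent (g * h) i j = ent g i 0 * ent h 0 j + ent g i 1 * ent h 1 j + ent g i 2 * ent h 2 j := by
  simp [ent, Matrix.mul_apply, Fin.sum_univ_three]

variable [Fact p.Prime]

theorem ent_row (g : ↥(Cfsg.qd p)) : ent g 2 0 = 0 ∧ ent g 2 1 = 0 ∧ ent g 2 2 = 1 := by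
  obtain ⟨g, hg⟩ := g
  induction hg using Subgroup.closure_induction with
  | mem x hx => exact hx
  | one => simp [ent]
  | mul x y _ _ hx hy =>
    simp only [ent] at hx hy ⊢
    simp [Matrix.mul_apply, Fin.sum_univ_three, hx.1, hx.2.1, hx.2.2, hy.1, hy.2.1, hy.2.2]
  | inv x hx' hx =>
    have e : ∀ j, ent (⟨x, hx'⟩ * ⟨x, hx'⟩⁻¹ : ↥(Cfsg.qd p)) 2 j =
        ent (⟨x, hx'⟩⁻¹ : ↥(Cfsg.qd p)) 2 j := by
      intro j
      rw [ent_mul, hx.1, hx.2.1, hx.2.2]
      ring
    simp only [mul_inv_cancel] at e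
    exact ⟨(e 0).symm.trans (by simp [ent]), (e 1).symm.trans (by simp [ent]),
      (e 2).symm.trans (by simp [ent])⟩

theorem ent_det (g : ↥(Cfsg.qd p)) : ent g 0 0 * ent g 1 1 - ent g 0 1 * ent g 1 0 = 1 := by
  obtain ⟨h0, h1, h2⟩ := ent_row g
  have h := g.1.2
  rw [Matrix.det_fin_three] at h
  simp only [ent] at h0 h1 h2 ⊢
  rw [h0, h1, h2] at h
  linear_combination h

/-- The upper unitriangular subgroup of `Qd(p)`. -/
def qdUpper (p : ℕ) [Fact p.Prime] : Subgroup ↥(Cfsg.qd p) where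
  carrier := {g | ent g 1 0 = 0 ∧ ent g 0 0 = 1}
  one_mem' := by simp [ent]
  mul_mem' := by
    intro a b ha hb
    have := ent_row b
    constructor <;> simp [ent_mul, ha.1, ha.2, hb.1, hb.2, this.1]
  inv_mem' := by
    intro a ha
    have e : ∀ i j, ent (a⁻¹ * a) i j = ent (1 : ↥(Cfsg.qd p)) i j := by simp
    obtain ⟨r0, -, -⟩ := ent_row a
    have h0 := e 1 0
    have h1 := e 0 0
    rw [ent_mul, ha.1, ha.2, r0] at h0 h1
    exact ⟨by simpa [ent] using h0, by simpa [ent] using h1⟩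

theorem mem_qdUpper {g : ↥(Cfsg.qd p)} : g ∈ qdUpper p ↔ ent g 1 0 = 0 ∧ ent g 0 0 = 1 := Iff.rfl

theorem eq_of_mem_qdUpper {g : ↥(Cfsg.qd p)} (hg : g ∈ qdUpper p) :
    g = qdT (ent g 0 2, ent g 1 2) * qdE (ent g 0 1) := by
  obtain ⟨r0, r1, r2⟩ := ent_row g
  have hd := ent_det g
  rw [hg.1, hg.2] at hd
  apply qd_ext
  simp only [qd_mul_val, qdT_val, qdE_val]
  simp only [ent] at r0 r1 r2 hd ⊢
  have h11 : (g.1 : Matrix (Fin 3) (Fin 3) (ZMod p)) 1 1 = 1 := by linear_combination hd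
  have h10 := hg.1
  have h00 := hg.2
  simp only [ent] at h10 h00
  ext i j
  fin_cases i <;> fin_cases j <;>
    simp [Matrix.mul_apply, Fin.sum_univ_three, r0, r1, r2, h10, h11, h00]

theorem qdT_mem_qdUpper (v : ZMod p × ZMod p) : qdT v ∈ qdUpper p := by
  simp [mem_qdUpper, ent, qdT_val]

theorem qdE_mem_qdUpper (a : ZMod p) : qdE a ∈ qdUpper p := by
  simp [mem_qdUpper, ent, qdE_val]

theorem card_qdUpper_le : Nat.card (qdUpper p) ≤ p ^ 3 := by
  have hinj : Function.Injective fun g : qdUpper p =>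
      ((ent g.1 0 2, ent g.1 1 2), ent g.1 0 1) := by
    intro g h e
    simp only [Prod.mk.injEq] at e
    apply Subtype.ext
    rw [eq_of_mem_qdUpper g.2, eq_of_mem_qdUpper h.2, e.1.1, e.1.2, e.2]
  refine (Nat.card_le_card_of_injective _ hinj).trans (le_of_eq ?_)
  rw [Nat.card_prod, Nat.card_prod, Nat.card_zmod]
  ring

theorem isPGroup_qdUpper : IsPGroup p (qdUpper p) := by
  intro g
  refine ⟨2, Subtype.ext ?_⟩
  have hkey : ∀ n : ℕ, (g.1 : ↥(Cfsg.qd p)) ^ n ∈ qdUpper p ∧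
      ent ((g.1 : ↥(Cfsg.qd p)) ^ n) 0 1 = n * ent g.1 0 1 := by
    intro n
    induction n with
    | zero => exact ⟨one_mem _, by simp [ent]⟩
    | succ n ih =>
      refine ⟨pow_mem g.2 _, ?_⟩
      obtain ⟨r0, r1, r2⟩ := ent_row g.1
      have hd := ent_det g.1
      rw [g.2.1, g.2.2] at hd
      rw [pow_succ, ent_mul, ih.1.2, ih.2, show ent g.1 1 1 = 1 by linear_combination hd, r1]
      push_cast
      ring
  have h1 := hkey p
  rw [ZMod.natCast_self, zero_mul] at h1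
  have h2 := eq_of_mem_qdUpper h1.1
  rw [h1.2, qdE_zero, mul_one] at h2
  rw [Subgroup.coe_pow, Subgroup.coe_one, pow_two, pow_mul, h2]
  generalize (ent ((g.1 : ↥(Cfsg.qd p)) ^ p) 0 2, ent ((g.1 : ↥(Cfsg.qd p)) ^ p) 1 2) = v
  have hpow : ∀ n : ℕ, qdT v ^ n = qdT (n • v) := by
    intro n
    induction n with
    | zero => simp [qdT_zero]
    | succ n ih => rw [pow_succ, ih, qdT_mul, succ_nsmul]
  rw [hpow, show p • v = 0 by ext <;> simp, qdT_zero]

theorem sylow_eq_qdUpper (T : Sylow p ↥(Cfsg.qd p)) (hT : qdUpper p ≤ (T : Subgroup _)) :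
    (T : Subgroup ↥(Cfsg.qd p)) = qdUpper p := by
  refine (eq_of_le_of_not_lt hT fun hlt => ?_).symm
  have : Finite ↥(T : Subgroup ↥(Cfsg.qd p)) := inferInstance
  set U := (qdUpper p).subgroupOf (T : Subgroup ↥(Cfsg.qd p)) with hU
  haveI : Group.IsNilpotent ↥(T : Subgroup ↥(Cfsg.qd p)) := T.2.isNilpotent
  have hUlt : U < ⊤ := by
    rw [lt_top_iff_ne_top, hU, Ne, subgroupOf_eq_top]
    exact hlt.not_ge
  obtain ⟨⟨g, hgT⟩, hgN, hgU⟩ := SetLike.exists_of_lt
    (Group.normalizerCondition_of_isNilpotent (G := ↥(T : Subgroup ↥(Cfsg.qd p))) U hUlt)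
  refine hgU ?_
  rw [hU, mem_subgroupOf, mem_qdUpper]
  show ent g 1 0 = 0 ∧ ent g 0 0 = 1
  have hconj : g * qdE 1 * g⁻¹ ∈ qdUpper p :=
    (mem_normalizer_iff.1 hgN ⟨qdE 1, hT (qdE_mem_qdUpper 1)⟩).1 (qdE_mem_qdUpper 1)
  set u := g * qdE 1 * g⁻¹ with hu
  have he : g * qdE 1 = u * g := by rw [hu, inv_mul_cancel_right]
  have h11 := congrArg (fun x => ent x 1 1) he
  obtain ⟨r0, r1, r2⟩ := ent_row g
  have hud := ent_det u
  rw [hconj.1, hconj.2] at hud
  simp only [ent_mul, hconj.1, r1, show ent u 1 1 = 1 by linear_combination hud] at h11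
  simp [ent, qdE_val] at h11
  have hg10 : ent g 1 0 = 0 := h11
  refine ⟨hg10, ?_⟩
  obtain ⟨k, hk⟩ := T.2 ⟨g, hgT⟩
  have hkey : ∀ n : ℕ, ent (g ^ n) 1 0 = 0 ∧ ent (g ^ n) 0 0 = ent g 0 0 ^ n := by
    intro n
    induction n with
    | zero => simp [ent]
    | succ n ih => rw [pow_succ, ent_mul, ent_mul, ih.1, ih.2, hg10, r0, pow_succ]; simp
  have h1 := (hkey (p ^ k)).2
  rw [show g ^ p ^ k = 1 from congrArg Subtype.val hk, ZMod.pow_card_pow] at h1
  simpa [ent] using h1.symm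

theorem centralizer_qdTrans_le : centralizer (qdTrans p : Set ↥(Cfsg.qd p)) ≤ qdTrans p := by
  intro g hg
  have e1 := mem_centralizer_iff.1 hg (qdT (1, 0)) (mem_qdTrans.2 ⟨_, rfl⟩)
  have e2 := mem_centralizer_iff.1 hg (qdT (0, 1)) (mem_qdTrans.2 ⟨_, rfl⟩)
  obtain ⟨r0, r1, r2⟩ := ent_row g
  have a := congrArg (fun x => ent x 0 2) e1
  have b := congrArg (fun x => ent x 1 2) e1
  have c := congrArg (fun x => ent x 0 2) e2
  simp only [ent_mul] at a b c
  simp only [ent] at r0 r1 r2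
  simp [ent, qdT_val, r0, r1, r2] at a b c
  have hU : g ∈ qdUpper p := by
    refine mem_qdUpper.2 ⟨?_, ?_⟩ <;> simp only [ent] <;> grind
  have h01 : ent g 0 1 = 0 := by simp only [ent]; grind
  rw [eq_of_mem_qdUpper hU, h01, qdE_zero, mul_one]
  exact mem_qdTrans.2 ⟨_, rfl⟩

theorem isPGroup_qdTrans : IsPGroup p (qdTrans p) :=
  isPGroup_qdUpper.to_le fun g hg => by
    obtain ⟨v, rfl⟩ := mem_qdTrans.1 hg
    exact qdT_mem_qdUpper v

theorem qdE_conj_qdT (a : ZMod p) (v : ZMod p × ZMod p) :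
    qdE a * qdT v = qdT (v.1 + a * v.2, v.2) * qdE a := by
  apply qd_ext
  simp only [qd_mul_val, qdT_val, qdE_val]
  ext i j
  fin_cases i <;> fin_cases j <;> simp [Matrix.mul_apply, Fin.sum_univ_three]

theorem quadratic_qdE :
    ⁅⁅qdTrans p, zpowers (qdE (1 : ZMod p))⁆, zpowers (qdE (1 : ZMod p))⁆ = ⊥ := by
  rw [commutator_eq_bot_iff_le_centralizer, commutator_le]
  have hz : ∀ x ∈ zpowers (qdE (1 : ZMod p)), ∃ a, x = qdE a := by
    intro x hx
    rw [← mem_powers_iff_mem_zpowers] at hx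
    obtain ⟨n, rfl⟩ := hx
    exact ⟨(n : ZMod p), by simp [qdE_pow]⟩
  intro v hv x hx
  obtain ⟨v, rfl⟩ := mem_qdTrans.1 hv
  obtain ⟨a, rfl⟩ := hz x hx
  rw [mem_centralizer_iff]
  intro y hy
  obtain ⟨b, rfl⟩ := hz y hy
  have h : ⁅qdT v, qdE a⁆ = qdT (-(a * v.2), 0) := by
    rw [commutatorElement_def, mul_inv_eq_iff_eq_mul, mul_inv_eq_iff_eq_mul]
    conv_rhs => rw [mul_assoc, qdE_conj_qdT, ← mul_assoc, qdT_mul]
    congr 2
    ext <;> simp
  rw [h]
  have := qdE_conj_qdT b (-(a * v.2), (0 : ZMod p))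
  simpa using this

theorem exists_swap : ∃ w : ↥(Cfsg.qd p), ∀ a, w * qdT (a, 0) * w⁻¹ = qdT (0, -a) := by
  refine ⟨qdE (1 : ZMod p) * qdF (-1) * qdE 1, fun a => ?_⟩
  rw [mul_inv_eq_iff_eq_mul]
  apply qd_ext
  simp only [qd_mul_val, qdE_val, qdF_val, qdT_val]
  ext i j
  fin_cases i <;> fin_cases j <;> simp [Matrix.mul_apply, Fin.sum_univ_three]

section Equiv

universe u

variable {H : Type u} [Group H] (e : ↥(Cfsg.qd p) ≃* H)

include e in
theorem not_isNormalizerPStable_of_equiv : ¬ Cfsg.IsNormalizerPStable p H := by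
  intro hst
  have : Finite H := Finite.of_equiv _ e.toEquiv
  set V := (qdTrans p).map e.toMonoidHom with hV
  haveI : (qdTrans p).Normal := qdTrans_normal
  haveI hVn : V.Normal := Normal.map inferInstance _ e.surjective
  have hg : e (qdE 1) ∈ normalizer (V : Set H) := normalizer_eq_top (H := V) ▸ mem_top _
  have hmem := hst V (isPGroup_qdTrans.map _) _ hg (by
    rw [show zpowers (e (qdE 1)) = (zpowers (qdE (1 : ZMod p))).map e.toMonoidHom from
      (MonoidHom.map_zpowers e.toMonoidHom _).symm, hV, ← map_commutator, ← map_commutator,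
      quadratic_qdE, Subgroup.map_bot])
  set N := normalizer (V : Set H) with hN
  set C := (centralizer (V : Set H)).subgroupOf N with hC
  set D := (Cfsg.pCore p (↥N ⧸ C)).comap (QuotientGroup.mk' C) with hD
  have hCp : IsPGroup p C := by
    refine IsPGroup.of_injective ((isPGroup_qdTrans.map e.toMonoidHom : IsPGroup p V))
      ((N.subtype.comp C.subtype).codRestrict V fun x => ?_) fun x y h =>
        Subtype.ext (Subtype.ext (congrArg Subtype.val h :))
    obtain ⟨g, hge⟩ := e.surjective ((x : N) : H)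
    rw [show (N.subtype.comp C.subtype) x = e g from hge.symm]
    refine mem_map_of_mem _ (centralizer_qdTrans_le (mem_centralizer_iff.2 fun v hv => ?_))
    apply e.injective
    rw [map_mul, map_mul, hge]
    exact mem_centralizer_iff.1 x.2 _ (mem_map_of_mem _ hv)
  have hDp : IsPGroup p D :=
    IsPGroup.comap_of_ker_isPGroup PCore.isPGroup_pCore _ (by rwa [QuotientGroup.ker_mk'])
  set D' := (D.map N.subtype).comap e.toMonoidHom with hD'
  have hD'p : IsPGroup p D' := (hDp.map N.subtype).comap_of_injective _ e.injective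
  haveI : D'.Normal := by
    refine Normal.comap ?_ _
    refine ⟨?_⟩
    rintro _ ⟨x, hx, rfl⟩ h
    have hh : h ∈ N := hN ▸ normalizer_eq_top (H := V) ▸ mem_top _
    exact ⟨⟨h, hh⟩ * x * ⟨h, hh⟩⁻¹,
      (Normal.comap PCore.pCore_normal (QuotientGroup.mk' C)).conj_mem x hx _, rfl⟩
  obtain ⟨T, hT⟩ := (isPGroup_qdUpper (p := p)).exists_le_sylow
  have hle : D' ≤ qdUpper p := sylow_eq_qdUpper T hT ▸ hD'p.le_sylow_of_normal T
  have hE : qdE (1 : ZMod p) ∈ D' := ⟨⟨e (qdE 1), hg⟩, hmem, rfl⟩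
  have hF : qdF (-1 : ZMod p) ∈ D' := by
    have := Normal.conj_mem inferInstance _ hE (qdE 1 * qdF (-1) * qdE 1)
    rwa [show qdE (1 : ZMod p) * qdF (-1) * qdE 1 * qdE 1 * (qdE 1 * qdF (-1) * qdE 1)⁻¹ =
      qdF (-1) by
        rw [mul_inv_eq_iff_eq_mul]
        apply qd_ext
        simp only [qd_mul_val, qdE_val, qdF_val]
        ext i j
        fin_cases i <;> fin_cases j <;> simp [Matrix.mul_apply, Fin.sum_univ_three]] at this
  have := (hle hF).1
  simp [ent, qdF_val] at this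

include e in
theorem exists_not_controls_zj_of_equiv :
    ∃ T : Sylow p H, ¬ Cfsg.ControlsStrongFusion p (Cfsg.centerThompsonAOf (T : Subgroup H)) := by
  have : Finite H := Finite.of_equiv _ e.toEquiv
  obtain ⟨T₀, hT₀⟩ := (isPGroup_qdUpper (p := p)).exists_le_sylow
  have hT : (T₀ : Subgroup ↥(Cfsg.qd p)) = qdUpper p := sylow_eq_qdUpper T₀ hT₀
  have he : Function.Surjective e.toMonoidHom := e.surjective
  refine ⟨T₀.mapSurjective he, ?_⟩
  rw [Sylow.coe_mapSurjective, hT, Replacement.centerThompsonAOf_map_equiv]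
  set U := qdUpper p with hUdef
  set Z := Cfsg.centerThompsonAOf U with hZdef
  have hmax : ∀ B : Subgroup ↥(Cfsg.qd p), B ≤ U → IsMulCommutative B →
      Nat.card B ≤ p ^ 2 := by
    intro B hB hBc
    obtain ⟨j, hj⟩ := IsPGroup.iff_card.1 (isPGroup_qdUpper.to_le hB)
    by_contra hlt
    rw [not_le, hj] at hlt
    have h3 : p ^ 3 ≤ Nat.card B :=
      hj ▸ Nat.pow_le_pow_right (Fact.out : p.Prime).pos
        ((Nat.pow_lt_pow_iff_right (Fact.out : p.Prime).one_lt).1 hlt)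
    have hBU : B = U := eq_of_le_of_card_ge hB (card_qdUpper_le.trans h3)
    have hcm : qdE (1 : ZMod p) * qdT (0, 1) = qdT (0, 1) * qdE 1 :=
      PGroup.mul_comm_of_isMulCommutative hBc (hBU ▸ qdE_mem_qdUpper 1) (hBU ▸ qdT_mem_qdUpper _)
    rw [qdE_conj_qdT, mul_left_inj] at hcm
    simpa using qdT_injective hcm
  have hV : PGroup.IsMaxAb U (qdTrans p) := by
    refine ⟨fun g hg => ?_, PGroup.isMulCommutative_of_forall ?_, fun B hB hBc =>
      (hmax B hB hBc).trans_eq card_qdTrans.symm⟩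
    · obtain ⟨v, rfl⟩ := mem_qdTrans.1 hg
      exact qdT_mem_qdUpper v
    · intro x hx y hy
      obtain ⟨v, rfl⟩ := mem_qdTrans.1 hx
      obtain ⟨w, rfl⟩ := mem_qdTrans.1 hy
      rw [qdT_mul, qdT_mul, add_comm]
  let f : Multiplicative (ZMod p × ZMod p) →* ↥(Cfsg.qd p) :=
    MonoidHom.mk' (fun w => qdT (w.toAdd.1, 0) * qdE w.toAdd.2) fun a b => by
      apply qd_ext
      simp only [qd_mul_val, qdT_val, qdE_val, toAdd_mul]
      ext i j
      fin_cases i <;> fin_cases j <;> simp [Matrix.mul_apply, Fin.sum_univ_three, add_comm]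
  have hfinj : Function.Injective f := by
    intro a b h
    have h02 := congrArg (fun x => ent x 0 2) h
    have h01 := congrArg (fun x => ent x 0 1) h
    simp [f, ent_mul] at h02 h01
    simp [ent, qdT_val, qdE_val] at h02 h01
    exact Multiplicative.toAdd.injective (Prod.ext h02 h01)
  have hA : PGroup.IsMaxAb U f.range := by
    refine ⟨?_, PGroup.isMulCommutative_of_forall ?_, fun B hB hBc =>
      (hmax B hB hBc).trans_eq ?_⟩
    · rintro _ ⟨w, rfl⟩
      exact mul_mem (qdT_mem_qdUpper _) (qdE_mem_qdUpper _)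
    · rintro _ ⟨a, rfl⟩ _ ⟨b, rfl⟩
      rw [← map_mul, ← map_mul, mul_comm]
    · rw [← Nat.card_congr (MonoidHom.ofInjective hfinj).toEquiv,
        Nat.card_congr Multiplicative.toAdd, Nat.card_prod, Nat.card_zmod, pow_two]
  have hline : ∀ x ∈ Z, ∃ c, x = qdT (c, 0) := by
    intro x hx
    have hxc : ∀ a ∈ Cfsg.thompsonSubgroupAOf U, a * x = x * a := mem_centralizer_iff.1 hx.2
    obtain ⟨v, rfl⟩ := mem_qdTrans.1 (centralizer_qdTrans_le
      (mem_centralizer_iff.2 fun a ha => hxc a (PGroup.le_thompsonSubgroupAOf hV ha)))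
    refine ⟨v.1, ?_⟩
    have hcm := hxc (qdE 1) (PGroup.le_thompsonSubgroupAOf hA
      ⟨Multiplicative.ofAdd (0, 1), by
        show qdT (0, 0) * qdE 1 = _
        rw [show ((0 : ZMod p), (0 : ZMod p)) = 0 from rfl, qdT_zero, one_mul]⟩)
    rw [qdE_conj_qdT, mul_left_inj] at hcm
    have h2 : v.2 = 0 := by
      have := congrArg Prod.fst (qdT_injective hcm)
      simpa using this
    rw [← h2]
  have hne : Z ≠ ⊥ := by
    intro h
    obtain ⟨z, hz, hzc, hz1, -⟩ := ZJControl.exists_orderOf_center (p := p) isPGroup_qdUpper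
      (D := U) (fun h' => qdE_one_ne_one (p := p) (mem_bot.1 (show qdE (1 : ZMod p) ∈ (⊥ : Subgroup ↥(Cfsg.qd p)) from
        h'.le (qdE_mem_qdUpper 1))))
    have hzJ : z ∈ centralizer (Cfsg.thompsonSubgroupAOf U : Set ↥(Cfsg.qd p)) :=
      centralizer_le (PGroup.thompsonSubgroupAOf_le U) hzc
    have : z ∈ Z := ⟨PGroup.centralizer_thompsonA_le U ⟨hz, hzJ⟩, hzJ⟩
    rw [h, mem_bot] at this
    exact hz1 this
  haveI : Nontrivial Z := (nontrivial_iff_ne_bot _).2 hne
  obtain ⟨⟨z, hz⟩, hz1'⟩ := exists_ne (1 : Z)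
  have hz1 : z ≠ 1 := fun h => hz1' (Subtype.ext h)
  obtain ⟨c, rfl⟩ := hline z hz
  rintro ⟨T, -, hT'⟩
  have hmemT : ∀ v, e (qdT v) ∈ (T : Subgroup H) := fun v => by
    haveI : (qdTrans p).Normal := qdTrans_normal
    haveI : ((qdTrans p).map e.toMonoidHom).Normal := Normal.map inferInstance _ e.surjective
    exact ((isPGroup_qdTrans.map e.toMonoidHom).le_sylow_of_normal T)
      (mem_map_of_mem _ (mem_qdTrans.2 ⟨v, rfl⟩))
  obtain ⟨-, hctl⟩ := hT' {e (qdT (1, 0))} (Set.singleton_subset_iff.2 (hmemT _))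
  obtain ⟨w, hww⟩ := exists_swap (p := p)
  have himg : e w * e (qdT (1, 0)) * (e w)⁻¹ ∈ (T : Subgroup H) := by
    rw [← map_mul, ← map_inv, ← map_mul, hww]
    exact hmemT _
  obtain ⟨x, hx, hxA⟩ := hctl (e w)
    (by rw [Set.image_singleton]; exact Set.singleton_subset_iff.2 himg)
  have hx1 := hxA _ (Set.mem_singleton _)
  obtain ⟨y, rfl⟩ := e.surjective x
  simp only [← map_mul, ← map_inv, e.injective.eq_iff, hww] at hx1
  have hy : y * qdT (c, 0) * y⁻¹ ∈ Z := by
    have := (mem_normalizer_iff.1 hx (e (qdT (c, 0)))).1 (mem_map_of_mem _ hz)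
    rw [← map_mul, ← map_inv, ← map_mul] at this
    obtain ⟨z', hz', he⟩ := this
    rwa [← e.injective (he : e z' = _)]
  have hpow : qdT (c, (0 : ZMod p)) = qdT (1, 0) ^ c.val := by
    have : ∀ n : ℕ, qdT ((1 : ZMod p), (0 : ZMod p)) ^ n = qdT ((n : ZMod p), 0) := by
      intro n
      induction n with
      | zero => rw [pow_zero, Nat.cast_zero]; exact qdT_zero.symm
      | succ n ih => rw [pow_succ, ih, qdT_mul]; simp
    rw [this, ZMod.natCast_rightInverse c]
  rw [hpow, ← conj_pow, ← hx1] at hy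
  obtain ⟨d, hd⟩ := hline _ hy
  have hnat : ∀ n : ℕ, qdT ((0 : ZMod p), (-1 : ZMod p)) ^ n = qdT (0, -(n : ZMod p)) := by
    intro n
    induction n with
    | zero => rw [pow_zero, Nat.cast_zero]; simp only [neg_zero]; exact qdT_zero.symm
    | succ n ih => rw [pow_succ, ih, qdT_mul]; simp [add_comm]
  rw [hnat, ZMod.natCast_rightInverse c] at hd
  have hc0 : c = 0 := by simpa using (congrArg Prod.snd (qdT_injective hd))
  exact hz1 (by rw [hc0]; exact qdT_zero)

end Equiv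

end Cfsg.Agent.Qd
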