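import Cfsg.Agent.Lib.Qd.Converse
import Cfsg.Agent.Lib.Transfer.SectionFusion

/-!
# `Qd(p)` has no fusion-controlling family of characteristic functors

* `qdAuto`: the automorphism of the Sylow subgroup of `Qd(p)` that exchanges its two root subgroups;
* `not_fus_of_equiv`: no family of `p`-functors controls strong fusion in `Qd(p)`.
-/

set_option autoImplicit false
set_option linter.style.haveILetI false

namespace Cfsg.Agent.Qd

open Subgroup Cfsg.Agent.RankTwo
open scoped Pointwise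

variable {p : ℕ} [Fact p.Prime]

theorem qdUpper_mul (v v' : ZMod p × ZMod p) (a a' : ZMod p) :
    (qdT v * qdE a) * (qdT v' * qdE a') = qdT (v.1 + v'.1 + a * v'.2, v.2 + v'.2) * qdE (a + a') := by
  have h1 : qdE a * qdE a' = qdE (a + a') := by
    apply qd_ext
    simp only [qd_mul_val, qdE_val]
    ext i j
    fin_cases i <;> fin_cases j <;> simp [Matrix.mul_apply, Fin.sum_univ_three, add_comm]
  rw [mul_assoc, ← mul_assoc (qdE a), qdE_conj_qdT, mul_assoc, h1, ← mul_assoc, qdT_mul]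
  congr 2
  ext <;> simp [add_assoc]

theorem qdUpper_coords (v : ZMod p × ZMod p) (a : ZMod p) :
    ent (qdT v * qdE a) 0 2 = v.1 ∧ ent (qdT v * qdE a) 1 2 = v.2 ∧ ent (qdT v * qdE a) 0 1 = a := by
  refine ⟨?_, ?_, ?_⟩ <;>
    simp [ent, qd_mul_val, qdT_val, qdE_val, Matrix.mul_apply, Fin.sum_univ_three]

/-- `qdT(a, b) qdE(c) ↦ qdT(-a + bc, c) qdE(b)`. -/
def qdAutoFun (g : ↥(qdUpper p)) : ↥(qdUpper p) :=
  ⟨qdT (-ent g.1 0 2 + ent g.1 1 2 * ent g.1 0 1, ent g.1 0 1) * qdE (ent g.1 1 2),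
    mul_mem (qdT_mem_qdUpper _) (qdE_mem_qdUpper _)⟩

theorem qdAutoFun_apply (v : ZMod p × ZMod p) (a : ZMod p) (h : qdT v * qdE a ∈ qdUpper p) :
    (qdAutoFun ⟨qdT v * qdE a, h⟩ : ↥(Cfsg.qd p)) = qdT (-v.1 + v.2 * a, a) * qdE v.2 := by
  obtain ⟨h1, h2, h3⟩ := qdUpper_coords v a
  show qdT _ * qdE _ = _
  rw [h1, h2, h3]

/-- The exchange automorphism. -/
def qdAuto : ↥(qdUpper p) ≃* ↥(qdUpper p) where
  toFun := qdAutoFun
  invFun := qdAutoFun
  left_inv g := by
    obtain ⟨g, hg⟩ := g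
    refine Subtype.ext ?_
    show qdT _ * qdE _ = g
    obtain ⟨h1, h2, h3⟩ := qdUpper_coords
      (-ent g 0 2 + ent g 1 2 * ent g 0 1, ent g 0 1) (ent g 1 2)
    simp only [qdAutoFun, h1, h2, h3]
    conv_rhs => rw [eq_of_mem_qdUpper hg]
    congr 2
    ext <;> simp [mul_comm]
  right_inv g := by
    obtain ⟨g, hg⟩ := g
    refine Subtype.ext ?_
    show qdT _ * qdE _ = g
    obtain ⟨h1, h2, h3⟩ := qdUpper_coords
      (-ent g 0 2 + ent g 1 2 * ent g 0 1, ent g 0 1) (ent g 1 2)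
    simp only [qdAutoFun, h1, h2, h3]
    conv_rhs => rw [eq_of_mem_qdUpper hg]
    congr 2
    ext <;> simp [mul_comm]
  map_mul' g g' := by
    obtain ⟨g, hg⟩ := g
    obtain ⟨g', hg'⟩ := g'
    refine Subtype.ext ?_
    obtain ⟨h1, h2, h3⟩ := qdUpper_coords
      (ent g 0 2 + ent g' 0 2 + ent g 0 1 * ent g' 1 2, ent g 1 2 + ent g' 1 2) (ent g 0 1 + ent g' 0 1)
    show qdT _ * qdE _ = (qdT _ * qdE _) * (qdT _ * qdE _)
    rw [qdUpper_mul]
    have hmul := qdUpper_mul (ent g 0 2, ent g 1 2) (ent g' 0 2, ent g' 1 2) (ent g 0 1) (ent g' 0 1)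
    rw [← eq_of_mem_qdUpper hg, ← eq_of_mem_qdUpper hg'] at hmul
    simp only [Subgroup.coe_mul, hmul, h1, h2, h3]
    congr 2
    ext <;> simp only <;> ring

theorem qdAuto_qdT : (qdAuto ⟨qdT ((0 : ZMod p), (1 : ZMod p)), qdT_mem_qdUpper _⟩ :
    ↥(Cfsg.qd p)) = qdE 1 := by
  show qdT _ * qdE _ = _
  simp [ent, qdT_val, show ((0 : ZMod p), (0 : ZMod p)) = 0 from rfl, qdT_zero]

/-- The line of fixed translations. -/
def qdLine (p : ℕ) [Fact p.Prime] : Subgroup ↥(Cfsg.qd p) :=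
  qdTrans p ⊓ centralizer ({qdE (1 : ZMod p)} : Set ↥(Cfsg.qd p))

theorem qdT_mem_qdLine {v : ZMod p × ZMod p} : qdT v ∈ qdLine p ↔ v.2 = 0 := by
  rw [qdLine, mem_inf, mem_centralizer_singleton_iff]
  refine ⟨fun h => ?_, fun h => ⟨mem_qdTrans.2 ⟨v, rfl⟩, ?_⟩⟩
  · have h1 := h.2
    rw [eq_comm, qdE_conj_qdT, mul_left_inj] at h1
    have h2 := congrArg Prod.fst (qdT_injective h1)
    simpa using h2
  · rw [qdE_conj_qdT, show (v.1 + 1 * v.2, v.2) = v by ext <;> simp [h]]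

theorem qdE_mem_zpowers (a : ZMod p) : qdE a ∈ zpowers (qdE (1 : ZMod p)) := by
  have h := pow_mem (mem_zpowers (qdE (1 : ZMod p))) a.val
  rwa [qdE_pow, ZMod.natCast_rightInverse, mul_one] at h

/-- The normalizer of a characteristic subgroup of the Sylow subgroup fixes the line. -/
theorem normalizer_le_normalizer_qdLine {W₀ : Subgroup ↥(qdUpper p)}
    (hinv : ∀ φ : ↥(qdUpper p) ≃* ↥(qdUpper p), W₀.map φ.toMonoidHom = W₀) (hne : W₀ ≠ ⊥) :
    normalizer ((W₀.map (qdUpper p).subtype : Subgroup ↥(Cfsg.qd p)) : Set ↥(Cfsg.qd p)) ≤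
      normalizer (qdLine p : Set ↥(Cfsg.qd p)) := by
  set W := W₀.map (qdUpper p).subtype with hW
  have hWU : W ≤ qdUpper p := map_subtype_le _
  have hnorm : ∀ u ∈ qdUpper p, ∀ w ∈ W, u * w * u⁻¹ ∈ W := by
    rintro u hu _ ⟨w, hw, rfl⟩
    refine ⟨MulAut.conj (⟨u, hu⟩ : ↥(qdUpper p)) w, ?_, rfl⟩
    exact (hinv (MulAut.conj ⟨u, hu⟩)).le ⟨w, hw, rfl⟩
  -- a nontrivial fixed translation in `W`
  obtain ⟨a, b, c, hw, hw1⟩ : ∃ a b c : ZMod p,
      qdT (a, b) * qdE c ∈ W ∧ qdT (a, b) * qdE c ≠ 1 := by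
    obtain ⟨w, hw, hw1⟩ := (bot_or_exists_ne_one W).resolve_left fun h =>
      hne ((map_eq_bot_iff_of_injective _ (qdUpper p).subtype_injective).1 h)
    have he := eq_of_mem_qdUpper (hWU hw)
    exact ⟨_, _, _, he ▸ hw, he ▸ hw1⟩
  obtain ⟨v, hv, hv1⟩ : ∃ x : ZMod p, x ≠ 0 ∧ qdT (x, 0) ∈ W := by
    by_cases hc : c = 0
    · subst hc
      rw [qdE_zero, mul_one] at hw hw1
      by_cases hb : b = 0
      · subst hb
        exact ⟨a, fun ha => hw1 (by rw [ha]; exact qdT_zero), hw⟩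
      · refine ⟨b, hb, ?_⟩
        have h1 := mul_mem (hnorm (qdE 1) (qdE_mem_qdUpper 1) _ hw) (inv_mem hw)
        rw [qdE_conj_qdT, mul_assoc (qdT _) (qdE _), mul_inv_cancel, mul_one] at h1
        convert h1 using 1
        rw [eq_mul_inv_iff_mul_eq, qdT_mul]
        congr 1
        ext <;> simp [add_comm]
    · refine ⟨-c, neg_ne_zero.2 hc, ?_⟩
      have h1 := mul_mem (hnorm (qdT (0, 1)) (qdT_mem_qdUpper _) _ hw) (inv_mem hw)
      convert h1 using 1
      rw [eq_mul_inv_iff_mul_eq, eq_mul_inv_iff_mul_eq]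
      have hz : ∀ x : ZMod p × ZMod p, qdT x = qdT x * qdE 0 := fun x => by rw [qdE_zero, mul_one]
      rw [hz (-c, 0), hz (0, 1), qdUpper_mul, qdUpper_mul, qdUpper_mul]
      congr 2
      · ext <;> simp [add_comm]
      · simp
  have hline : ∀ x ∈ qdLine p, x ∈ W := by
    intro x hx
    obtain ⟨y, rfl⟩ := mem_qdTrans.1 hx.1
    have hy : y.2 = 0 := qdT_mem_qdLine.1 hx
    have hpow : ∀ n : ℕ, qdT (v, (0 : ZMod p)) ^ n = qdT ((n : ZMod p) * v, 0) := by
      intro n
      induction n with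
      | zero => rw [pow_zero, Nat.cast_zero, zero_mul]; exact qdT_zero.symm
      | succ n ih => rw [pow_succ, ih, qdT_mul]; congr 1; ext <;> simp [add_mul]
    have h1 := pow_mem hv1 (y.1 / v).val
    rw [hpow, ZMod.natCast_rightInverse, div_mul_cancel₀ _ hv] at h1
    rwa [show y = (y.1, 0) from Prod.ext rfl hy]
  intro g hg
  by_cases hV : ∀ v : ZMod p × ZMod p, qdT v ∈ W
  · -- `W` is the whole Sylow subgroup, whose fixed translations form the line
    have hE : qdE (1 : ZMod p) ∈ W := by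
      obtain ⟨a, ha, hae⟩ := hV (0, 1)
      have h1 : qdAuto a ∈ W₀ := (hinv qdAuto).le ⟨a, ha, rfl⟩
      have h2 : (⟨qdT ((0 : ZMod p), 1), qdT_mem_qdUpper _⟩ : ↥(qdUpper p)) = a := Subtype.ext hae.symm
      rw [← qdAuto_qdT, h2]
      exact ⟨_, h1, rfl⟩
    have hWeq : W = qdUpper p := le_antisymm hWU fun x hx => by
      rw [eq_of_mem_qdUpper hx]
      exact mul_mem (hV _) ((zpowers_le.2 hE) (qdE_mem_zpowers _))
    have hc : qdLine p = qdTrans p ⊓ centralizer (W : Set ↥(Cfsg.qd p)) := by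
      refine le_antisymm (fun x hx => ⟨hx.1, fun u hu => ?_⟩)
        (inf_le_inf_left _ (centralizer_le (Set.singleton_subset_iff.2 hE)))
      obtain ⟨y, rfl⟩ := mem_qdTrans.1 hx.1
      have hy : y.2 = 0 := qdT_mem_qdLine.1 hx
      rw [hWeq] at hu
      rw [eq_of_mem_qdUpper hu]
      refine Commute.eq (Commute.mul_left ?_ ?_)
      · show _ = _
        rw [qdT_mul, qdT_mul, add_comm]
      · show _ = _
        rw [qdE_conj_qdT, show (y.1 + ent u 0 1 * y.2, y.2) = y by ext <;> simp [hy]]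
    rw [hc]
    exact LocalStructure.le_normalizer_inf
      (by rw [(normalizer_eq_top_iff.2 qdTrans_normal)]; exact le_top)
      (LocalStructure.le_normalizer_centralizer le_rfl) hg
  · -- otherwise the line is `W ∩ V`
    push Not at hV
    obtain ⟨v₀, hv₀⟩ := hV
    have hc : qdLine p = qdTrans p ⊓ W := by
      refine le_antisymm (le_inf inf_le_left fun x hx => hline x hx) fun x hx => ?_
      obtain ⟨y, rfl⟩ := mem_qdTrans.1 hx.1
      refine qdT_mem_qdLine.2 ?_
      by_contra hy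
      refine hv₀ ?_
      have hpow : ∀ n : ℕ, qdT y ^ n = qdT (n • y) := by
        intro n
        induction n with
        | zero => simp [qdT_zero]
        | succ n ih => rw [pow_succ, ih, qdT_mul, succ_nsmul]
      have h1 := pow_mem hx.2 (v₀.2 / y.2).val
      rw [hpow] at h1
      have h2 := mul_mem h1 (hline _
        ((qdT_mem_qdLine (v := (v₀.1 - (v₀.2 / y.2) * y.1, 0))).2 rfl))
      rw [qdT_mul] at h2
      have h3 : (((v₀.2 / y.2).val : ℕ) : ZMod p) = v₀.2 / y.2 := ZMod.natCast_rightInverse _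
      have h4 : (v₀.2 / y.2).val • y + (v₀.1 - v₀.2 / y.2 * y.1, 0) = v₀ := by
        ext
        · simp [nsmul_eq_mul, h3]
        · simp [nsmul_eq_mul, h3, div_mul_cancel₀ _ hy]
      rwa [h4] at h2
    rw [hc]
    exact LocalStructure.le_normalizer_inf
      (by rw [(normalizer_eq_top_iff.2 qdTrans_normal)]; exact le_top) le_rfl hg

universe u

variable {𝓦 : Set (∀ (Q : Type u) [Group Q], Subgroup Q)}

/-- **No family of functors controls strong fusion in `Qd(p)`.** -/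
theorem not_fus_of_equiv (h𝓦 : ∀ W ∈ 𝓦, Cfsg.IsCharPFunctor.{u} p W) {H : Type u} [Group H]
    (e : ↥(Cfsg.qd p) ≃* H) : ¬ Transfer.Fus p 𝓦 H := by
  haveI : Finite H := Finite.of_equiv _ e.toEquiv
  rintro ⟨T, -, hTp, hTi, hctl⟩
  rw [relIndex_top_right] at hTi
  obtain ⟨T₀, hT₀⟩ := (isPGroup_qdUpper (p := p)).exists_le_sylow
  have hT₀' : (T₀ : Subgroup ↥(Cfsg.qd p)) = qdUpper p := sylow_eq_qdUpper T₀ hT₀
  obtain ⟨g, hg⟩ := MulAction.exists_smul_eq H (T₀.mapSurjective (f := e.toMonoidHom) e.surjective)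
    (hTp.toSylow hTi)
  -- arrange that `T` is the image of the upper triangular subgroup
  set e' : ↥(Cfsg.qd p) ≃* H := e.trans (MulAut.conj g) with he'
  have hT : T = (qdUpper p).map e'.toMonoidHom := by
    have h1 := congrArg (fun S : Sylow p H => (S : Subgroup H)) hg
    have h2 : ((T₀.mapSurjective (f := e.toMonoidHom) e.surjective : Sylow p H) : Subgroup H) =
        (qdUpper p).map e.toMonoidHom := by
      rw [← hT₀']; rfl
    simp only [Sylow.coe_subgroup_smul, IsPGroup.toSylow_coe] at h1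
    rw [← h1, h2, he']
    exact (Subgroup.map_map (qdUpper p) (MulAut.conj g).toMonoidHom e.toMonoidHom)
  subst hT
  set U := (qdUpper p).map e'.toMonoidHom with hU
  let ψ : ↥(qdUpper p) ≃* ↥U := (qdUpper p).equivMapOfInjective e'.toMonoidHom e'.injective
  have hUp : IsPGroup p ↥U := isPGroup_qdUpper.map _
  haveI : Nontrivial ↥(qdUpper p) := ⟨⟨qdT (1, 0), qdT_mem_qdUpper _⟩, 1, fun h => by
    have := congrArg (fun x : ↥(qdUpper p) => ent (x : ↥(Cfsg.qd p)) 0 2) h
    simp [ent, qdT_val] at this⟩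
  haveI : Nontrivial ↥U := ψ.toEquiv.symm.nontrivial
  have hN : ∀ W ∈ 𝓦, ∀ y ∈ normalizer ((Cfsg.inducedFunctor W ((qdUpper p).map e'.toMonoidHom) :
      Subgroup H) : Set H), e'.symm y ∈ normalizer (qdLine p : Set ↥(Cfsg.qd p)) := by
    intro W hW y hy
    have h1 := h𝓦 W hW
    refine normalizer_le_normalizer_qdLine (W₀ := (W ↥U).map ψ.symm.toMonoidHom) (fun φ => ?_)
      (fun h => h1.1 _ hUp inferInstance ((map_eq_bot_iff_of_injective _ ψ.symm.injective).1 h)) ?_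
    · have h2 := h1.2 _ _ hUp (ψ.symm.trans (φ.trans ψ))
      conv_rhs => rw [← h2]
      rw [Subgroup.map_map, Subgroup.map_map]
      congr 1
      ext x
      simp
    · have h3 : Cfsg.inducedFunctor W U =
          (((W ↥U).map ψ.symm.toMonoidHom).map (qdUpper p).subtype).map e'.toMonoidHom := by
        rw [Cfsg.inducedFunctor, Subgroup.map_map, Subgroup.map_map]
        congr 1
        ext x
        exact congrArg Subtype.val (ψ.apply_symm_apply x).symm
      rw [h3, ← map_equiv_normalizer_eq _ e'] at hy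
      obtain ⟨x, hx, rfl⟩ := hy
      simpa using hx
  obtain ⟨w, hw⟩ := exists_swap (p := p)
  have hmemT : ∀ v, e' (qdT v) ∈ (qdUpper p).map e'.toMonoidHom := fun v =>
    mem_map_of_mem _ (qdT_mem_qdUpper v)
  obtain ⟨n, c, hc0, hstep, -, hlast⟩ := hctl {e' (qdT (1, 0))} (e' w) (mem_top _)
    (Set.singleton_subset_iff.2 (hmemT _)) (by
      rw [Set.image_singleton]
      refine Set.singleton_subset_iff.2 ?_
      show e' w * e' (qdT (1, 0)) * (e' w)⁻¹ ∈ _
      rw [← map_mul, ← map_inv, ← map_mul, hw]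
      exact hmemT _)
  have hall : ∀ i, e'.symm (c i) ∈ normalizer (qdLine p : Set ↥(Cfsg.qd p)) := by
    refine Fin.induction ?_ fun i ih => ?_
    · rw [hc0, map_one]; exact one_mem _
    · obtain ⟨_, ⟨W, hW, rfl⟩, hy⟩ := hstep i
      have h1 := mul_mem (hN W hW _ (mem_inf.1 hy).2) ih
      rwa [← map_mul, inv_mul_cancel_right] at h1
  have h1 := (mem_normalizer_iff.1 (hall (Fin.last n)) (qdT (1, 0))).1 (qdT_mem_qdLine.2 rfl)
  have h2 : e'.symm (c (Fin.last n)) * qdT (1, 0) * (e'.symm (c (Fin.last n)))⁻¹ = qdT (0, -1) := by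
    refine e'.injective ?_
    simp only [map_mul, map_inv, MulEquiv.apply_symm_apply]
    rw [hlast _ (Set.mem_singleton _), ← map_inv, ← map_mul, ← map_mul, hw]
  rw [h2] at h1
  exact one_ne_zero (neg_eq_zero.1 (qdT_mem_qdLine.1 h1))

end Cfsg.Agent.Qd
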