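import Cfsg.Agent.Lib.Qd.Converse
import Cfsg.Agent.Lib.Qd.Section

/-!
# The quotient `SL(2, p)` of `Qd(p)`

* `qdProj`, `qdProj_surjective`, `qdProj_ker`;
* `exists_involves_SL2_normalizer`: if `Qd(p)` is involved, `SL(2, p)` is involved in the normalizer
  of a nontrivial `p`-subgroup.
-/

set_option autoImplicit false
set_option linter.style.haveILetI false

namespace Cfsg.Agent.Qd

open Subgroup
open scoped MatrixGroups
open Cfsg.Agent.RankTwo

variable {p : ℕ} [Fact p.Prime]

/-- The linear part. -/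
def qdProjFun (g : ↥(Cfsg.qd p)) : SL(2, ZMod p) :=
  ⟨!![ent g 0 0, ent g 0 1; ent g 1 0, ent g 1 1], by rw [Matrix.det_fin_two_of]; exact ent_det g⟩

/-- The linear part as a homomorphism. -/
def qdProj : ↥(Cfsg.qd p) →* SL(2, ZMod p) :=
  MonoidHom.mk' qdProjFun fun g h => by
    obtain ⟨r0, r1, -⟩ := ent_row h
    apply Subtype.ext
    show !![_, _; _, _] = !![_, _; _, _] * !![_, _; _, _]
    ext i j
    fin_cases i <;> fin_cases j <;>
      simp [ent_mul, r0, r1, Matrix.mul_apply, Fin.sum_univ_two]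

theorem qdProj_surjective : Function.Surjective (qdProj (p := p)) := fun M =>
  ⟨qdLin M, Matrix.SpecialLinearGroup.ext _ _ fun i j => by
    fin_cases i <;> fin_cases j <;> rfl⟩

theorem qdProj_ker : (qdProj (p := p)).ker = qdTrans p := by
  ext g
  constructor
  · intro h
    have e := fun i j => congrArg (fun m : SL(2, ZMod p) => m.1 i j) (MonoidHom.mem_ker.1 h)
    have h10 : ent g 1 0 = 0 := by simpa [qdProj, qdProjFun] using e 1 0
    have h00 : ent g 0 0 = 1 := by simpa [qdProj, qdProjFun] using e 0 0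
    have h01 : ent g 0 1 = 0 := by simpa [qdProj, qdProjFun] using e 0 1
    rw [eq_of_mem_qdUpper (mem_qdUpper.2 ⟨h10, h00⟩), h01, qdE_zero, mul_one]
    exact mem_qdTrans.2 ⟨_, rfl⟩
  · intro h
    obtain ⟨v, rfl⟩ := mem_qdTrans.1 h
    refine MonoidHom.mem_ker.2 (Matrix.SpecialLinearGroup.ext _ _ fun i j => ?_)
    fin_cases i <;> fin_cases j <;> simp [qdProj, qdProjFun, ent, qdT_val]

theorem exists_involves_SL2_normalizer {G : Type*} [Group G] [Finite G]
    (h : Cfsg.Involves ↥(Cfsg.qd p) G) : ∃ P : Subgroup G, IsPGroup p P ∧ P ≠ ⊥ ∧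
      Cfsg.Involves SL(2, ZMod p) ↥(normalizer (P : Set G)) := by
  obtain ⟨K, φ, hφ⟩ := ConjFun.exists_surjective_of_involves h
  set M := (qdTrans p).comap φ with hM
  haveI : (qdTrans p).Normal := qdTrans_normal
  haveI : M.Normal := Normal.comap inferInstance _
  obtain ⟨T⟩ : Nonempty (Sylow p M) := inferInstance
  set T' := (T : Subgroup M).map M.subtype
  set P := T'.map K.subtype with hP
  refine ⟨P, (T.2.map _).map _, fun hbot => ?_, ?_⟩
  · -- `T` maps onto the translations
    let f : M →* qdTrans p := (φ.comp M.subtype).codRestrict (qdTrans p) fun x => x.2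
    have hf : Function.Surjective f := by
      rintro ⟨y, hy⟩
      obtain ⟨x, rfl⟩ := hφ y
      exact ⟨⟨x, hy⟩, rfl⟩
    have h1 : ((T.mapSurjective hf : Sylow p (qdTrans p)) : Subgroup (qdTrans p)) = ⊤ :=
      ((T.mapSurjective hf).is_maximal' (isPGroup_qdTrans.of_equiv topEquiv.symm) le_top).symm
    have hT : (T : Subgroup M) = ⊥ := by
      rwa [map_eq_bot_iff_of_injective _ K.subtype_injective,
        map_eq_bot_iff_of_injective _ M.subtype_injective] at hbot
    rw [Sylow.coe_mapSurjective, hT, Subgroup.map_bot] at h1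
    have h2 : Nat.card (qdTrans p) = 1 := by
      rw [← card_top (G := ↥(qdTrans p)), ← h1, card_bot]
    rw [card_qdTrans] at h2
    exact (Nat.one_lt_pow two_ne_zero (Fact.out : p.Prime).one_lt).ne' h2
  · have hfr : normalizer (T' : Set K) ⊔ M = ⊤ := Sylow.normalizer_sup_eq_top T
    set N := normalizer (T' : Set K)
    have hle : N.map K.subtype ≤ normalizer (P : Set G) := le_normalizer_map K.subtype
    let π : N →* SL(2, ZMod p) := qdProj.comp (φ.comp N.subtype)
    have hπ : Function.Surjective π := by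
      intro s
      obtain ⟨y, rfl⟩ := qdProj_surjective s
      obtain ⟨x, rfl⟩ := hφ y
      obtain ⟨n, hn, m, hm, rfl⟩ :=
        mem_sup_of_normal_right.1 (hfr ▸ mem_top x : x ∈ N ⊔ M)
      refine ⟨⟨n, hn⟩, ?_⟩
      show qdProj (φ n) = qdProj (φ (n * m))
      rw [map_mul φ, map_mul qdProj, MonoidHom.mem_ker.1 ((qdProj_ker (p := p)).ge hm), mul_one]
    let e : N ≃* (N.map K.subtype).subgroupOf (normalizer (P : Set G)) :=
      (N.equivMapOfInjective K.subtype K.subtype_injective).trans (subgroupOfEquivOfLe hle).symm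
    exact ConjFun.involves_of_surjective _ (π.comp e.symm.toMonoidHom) (hπ.comp e.symm.surjective)

end Cfsg.Agent.Qd
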